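import Groth.Agent.Lib.Lead.MV.GlueD
import Groth.Agent.H4.PSch5
import Groth.Agent.Lib.Lead.QC.RestrictLoc

/-!
# Approximation by perfect complexes extends from an open containing the support (S7265)

`P' = j_! P`, `α' : j_! P ⟶ j_!(E|_U) ⟶ E`.
-/

set_option autoImplicit false
universe u
open CategoryTheory CategoryTheory.Limits AlgebraicGeometry TopologicalSpace Opposite
open Groth.Agent.H4.PSch1 Groth.Agent.H4.PSch2 Groth.Agent.H4.PSch3
open scoped ZeroObject

attribute [local instance] HasDerivedCategory.standard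

namespace Groth.Agent.LD.MV

/-- homology of complexes, as a functor. -/
noncomputable abbrev Hc (Y : Scheme.{u}) (n : ℤ) : CochainComplex Y.Modules ℤ ⥤ Y.Modules :=
  HomologicalComplex.homologyFunctor Y.Modules (ComplexShape.up ℤ) n

/-- homology of objects of the derived category. -/
noncomputable abbrev Hd (Y : Scheme.{u}) (n : ℤ) : DCoh.D Y ⥤ Y.Modules :=
  DerivedCategory.homologyFunctor Y.Modules n

section HomologyQ

variable {Y : Scheme.{u}}

lemma Hd_map_Q {K L : CochainComplex Y.Modules ℤ} (f : K ⟶ L) (n : ℤ) :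
    (Hd Y n).map (DerivedCategory.Q.map f) =
      (DerivedCategory.homologyFunctorFactors Y.Modules n).hom.app K ≫ (Hc Y n).map f ≫
        (DerivedCategory.homologyFunctorFactors Y.Modules n).inv.app L := by
  have h : (Hd Y n).map (DerivedCategory.Q.map f) ≫
      (DerivedCategory.homologyFunctorFactors Y.Modules n).hom.app L =
      (DerivedCategory.homologyFunctorFactors Y.Modules n).hom.app K ≫ (Hc Y n).map f :=
    DerivedCategory.homologyFunctorFactors_hom_naturality f n
  rw [← Category.assoc, ← h, Category.assoc, Iso.hom_inv_id_app]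
  exact (Category.comp_id _).symm

lemma isIso_Hc_iff {K L : CochainComplex Y.Modules ℤ} (f : K ⟶ L) (n : ℤ) :
    IsIso ((Hc Y n).map f) ↔ IsIso ((Hd Y n).map (DerivedCategory.Q.map f)) := by
  rw [Hd_map_Q]
  constructor
  · intro h
    infer_instance
  · intro h
    haveI : IsIso ((Hc Y n).map f ≫
        (DerivedCategory.homologyFunctorFactors Y.Modules n).inv.app L) :=
      IsIso.of_isIso_comp_left
        ((DerivedCategory.homologyFunctorFactors Y.Modules n).hom.app K) _
    exact IsIso.of_isIso_comp_right _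
      ((DerivedCategory.homologyFunctorFactors Y.Modules n).inv.app L)

lemma epi_Hc_iff {K L : CochainComplex Y.Modules ℤ} (f : K ⟶ L) (n : ℤ) :
    Epi ((Hc Y n).map f) ↔ Epi ((Hd Y n).map (DerivedCategory.Q.map f)) := by
  rw [Hd_map_Q]
  constructor
  · intro h
    infer_instance
  · intro h
    haveI : Epi ((Hc Y n).map f ≫
        (DerivedCategory.homologyFunctorFactors Y.Modules n).inv.app L) :=
      epi_of_epi ((DerivedCategory.homologyFunctorFactors Y.Modules n).hom.app K) _
    have e : (Hc Y n).map f = ((Hc Y n).map f ≫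
        (DerivedCategory.homologyFunctorFactors Y.Modules n).inv.app L) ≫
          (DerivedCategory.homologyFunctorFactors Y.Modules n).hom.app L := by
      rw [Category.assoc, Iso.inv_hom_id_app]
      exact (Category.comp_id _).symm
    rw [e]
    infer_instance

lemma isZero_of_Hd (K : DCoh.D Y) (h : ∀ n : ℤ, IsZero ((Hd Y n).obj K)) : IsZero K := by
  haveI : IsIso (0 : K ⟶ 0) := by
    rw [DerivedCategory.isIso_iff]
    intro n
    exact ⟨⟨0, (h n).eq_of_src _ _,
      ((Hd Y n).map_isZero (isZero_zero _)).eq_of_src _ _⟩⟩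
  exact IsZero.of_iso (isZero_zero _) (asIso (0 : K ⟶ 0))

end HomologyQ

section Nat

variable {Y Z : Scheme.{u}} (G : Y.Modules ⥤ Z.Modules) [G.Additive] [PreservesFiniteLimits G]
  [PreservesFiniteColimits G]

/-- homology commutes with an exact functor. -/
noncomputable def homIso (K : CochainComplex Y.Modules ℤ) (n : ℤ) :
    (Hc Z n).obj ((G.mapHomologicalComplex (ComplexShape.up ℤ)).obj K) ≅
      G.obj ((Hc Y n).obj K) :=
  (K.sc n).mapHomologyIso G

lemma homIso_naturality {K L : CochainComplex Y.Modules ℤ} (f : K ⟶ L) (n : ℤ) :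
    (Hc Z n).map ((G.mapHomologicalComplex (ComplexShape.up ℤ)).map f) ≫ (homIso G L n).hom =
      (homIso G K n).hom ≫ G.map ((Hc Y n).map f) :=
  ShortComplex.mapHomologyIso_hom_naturality
    ((HomologicalComplex.shortComplexFunctor Y.Modules (ComplexShape.up ℤ) n).map f) G

lemma map_Hc_eq {K L : CochainComplex Y.Modules ℤ} (f : K ⟶ L) (n : ℤ) :
    G.map ((Hc Y n).map f) = (homIso G K n).inv ≫
      (Hc Z n).map ((G.mapHomologicalComplex (ComplexShape.up ℤ)).map f) ≫
        (homIso G L n).hom := by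
  rw [homIso_naturality, Iso.inv_hom_id_assoc]

lemma isIso_map_Hc_of {K L : CochainComplex Y.Modules ℤ} (f : K ⟶ L) (n : ℤ)
    (h : IsIso ((Hc Z n).map ((G.mapHomologicalComplex (ComplexShape.up ℤ)).map f))) :
    IsIso (G.map ((Hc Y n).map f)) := by
  haveI := h
  rw [map_Hc_eq]
  infer_instance

lemma epi_map_Hc_of {K L : CochainComplex Y.Modules ℤ} (f : K ⟶ L) (n : ℤ)
    (h : Epi ((Hc Z n).map ((G.mapHomologicalComplex (ComplexShape.up ℤ)).map f))) :
    Epi (G.map ((Hc Y n).map f)) := by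
  haveI := h
  rw [map_Hc_eq]
  infer_instance

end Nat

lemma unit_map_counit {𝒜 ℬ : Type*} [Category 𝒜] [Category ℬ] {L : ℬ ⥤ 𝒜} {R : 𝒜 ⥤ ℬ}
    (adj : L ⊣ R) {A : ℬ} {B : 𝒜} (g : A ⟶ R.obj B) :
    adj.unit.app A ≫ R.map (L.map g ≫ adj.counit.app B) = g := by
  have h := (adj.homEquiv A B).apply_symm_apply g
  rw [Adjunction.homEquiv_counit, Adjunction.homEquiv_unit] at h
  exact h

variable {X : Scheme.{u}}

lemma isZero_of_support (M : X.Modules) (S : Set X) (h1 : CohB1.support M ⊆ S)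
    (h2 : CohB1.support M ⊆ Sᶜ) : IsZero M :=
  QC.isZero_of_support_eq_empty
    (Set.subset_empty_iff.mp (fun x hx => (h2 hx (h1 hx)).elim))

lemma isIso_of_restrict (U : X.Opens) {A B : X.Modules} (φ : A ⟶ B)
    (hA : CohB1.support A ⊆ (U : Set X)) (hB : CohB1.support B ⊆ (U : Set X))
    (h : IsIso ((Rf U).map φ)) : IsIso φ := by
  obtain ⟨hk, hc⟩ := (QC.isIso_restrict_map_iff U φ).mp h
  haveI : Mono φ := Preadditive.mono_of_isZero_kernel φ
    (isZero_of_support _ _ ((QC.support_subset_of_mono (kernel.ι φ)).trans hA) hk)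
  haveI : Epi φ := Preadditive.epi_of_isZero_cokernel φ
    (isZero_of_support _ _ ((QC.support_subset_of_epi (cokernel.π φ)).trans hB) hc)
  exact isIso_of_mono_of_epi φ

lemma epi_of_restrict (U : X.Opens) {A B : X.Modules} (φ : A ⟶ B)
    (hB : CohB1.support B ⊆ (U : Set X)) (h : Epi ((Rf U).map φ)) : Epi φ := by
  haveI := h
  have hc : IsZero ((Rf U).obj (cokernel φ)) :=
    (isZero_cokernel_of_epi ((Rf U).map φ)).of_iso (PreservesCokernel.iso (Rf U) φ)
  rw [QC.isZero_restrict_iff] at hc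
  exact Preadditive.epi_of_isZero_cokernel φ
    (isZero_of_support _ _ ((QC.support_subset_of_epi (cokernel.π φ)).trans hB) hc)

lemma support_extZero_subset (U : X.Opens) (M : (U : Scheme.{u}).Modules) (T : Set X)
    (h : CohB1.support M ⊆ {v : ↥(U : Scheme.{u}) | U.ι.base v ∈ T}) :
    CohB1.support ((Lf U).obj M) ⊆ T := by
  intro y hy
  by_cases hyU : y ∈ U
  · have h1 : (⟨y, hyU⟩ : U) ∈ CohB1.support (((Lf U).obj M).restrict U.ι) :=
      (QC.mem_support_restrict_iff U.ι _ ⟨y, hyU⟩).mpr hy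
    have e : M ≅ ((Lf U).obj M).restrict U.ι :=
      @asIso _ _ _ _ ((adjW U).unit.app M) (isIso_unit_app U M)
    rw [← QC.support_eq_of_iso e] at h1
    exact h h1
  · exact absurd (ModuleCat.isZero_iff_subsingleton.mp (isZero_stalk_extZero U M y hyU)) hy

/-- **S7265**. -/
theorem approx_extend (U : X.Opens) (T : Set X) (hT : IsClosed T) (hTU : T ⊆ (U : Set X))
    (E : DCoh.D X) (m : ℤ) (P : DCoh.D (U : Scheme.{u})) (α : P ⟶ (DCoh.restrictD U.ι).obj E)
    (hP : DCoh.IsPerfect P)
    (hPs : ∀ i : ℤ, CohB1.support (DCoh.HD P i) ⊆ {v : ↥(U : Scheme.{u}) | U.ι.base v ∈ T})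
    (hiso : ∀ i : ℤ, m < i → IsIso ((DerivedCategory.homologyFunctor _ i).map α))
    (hepi : Epi ((DerivedCategory.homologyFunctor _ m).map α))
    (hsupp : ∀ i : ℤ, m ≤ i → CohB1.support (DCoh.HD E i) ⊆ T) :
    ∃ (P' : DCoh.D X) (α' : P' ⟶ E), DCoh.IsPerfect P' ∧
      (∀ i : ℤ, CohB1.support (DCoh.HD P' i) ⊆ T) ∧
      (∀ i : ℤ, m < i → IsIso ((DerivedCategory.homologyFunctor X.Modules i).map α')) ∧
      Epi ((DerivedCategory.homologyFunctor X.Modules m).map α') := by
  haveI := ExtZeroGen.preservesFiniteLimits_extZero U.ι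
  have eE : DerivedCategory.Q.obj (DerivedCategory.Q.objPreimage E) ≅ E :=
    DerivedCategory.Q.objObjPreimageIso E
  have eP : DerivedCategory.Q.obj (DerivedCategory.Q.objPreimage P) ≅ P :=
    DerivedCategory.Q.objObjPreimageIso P
  generalize DerivedCategory.Q.objPreimage E = KE at eE
  generalize DerivedCategory.Q.objPreimage P = KP at eP
  obtain ⟨K', s, hs, g, hα₁⟩ := DerivedCategory.right_fac
    (eP.hom ≫ α ≫ (RD U.ι).map eE.inv ≫ (RDfac U.ι KE).hom)
  haveI := hs
  have hQg : DerivedCategory.Q.map g = DerivedCategory.Q.map s ≫ eP.hom ≫ α ≫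
      (RD U.ι).map eE.inv ≫ (RDfac U.ι KE).hom := by
    rw [hα₁, IsIso.hom_inv_id_assoc]
  have hg_iso : ∀ i : ℤ, m < i → IsIso ((Hc (U : Scheme.{u}) i).map g) := by
    intro i hi
    rw [isIso_Hc_iff, hQg]
    haveI := hiso i hi
    simp only [Functor.map_comp]
    infer_instance
  have hg_epi : Epi ((Hc (U : Scheme.{u}) m).map g) := by
    rw [epi_Hc_iff, hQg]
    haveI := hepi
    simp only [Functor.map_comp]
    infer_instance
  -- the chain map `j_! K' ⟶ K_E`
  obtain ⟨f, hf⟩ : ∃ f : ((Lf U).mapHomologicalComplex (ComplexShape.up ℤ)).obj K' ⟶ KE,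
      (unitCxIso U K').hom ≫ ((Rf U).mapHomologicalComplex (ComplexShape.up ℤ)).map f = g := by
    refine ⟨((Lf U).mapHomologicalComplex (ComplexShape.up ℤ)).map g ≫ counitCx U KE, ?_⟩
    refine HomologicalComplex.hom_ext _ _ (fun n => ?_)
    exact unit_map_counit (adjW U) (g.f n)
  have hcomp : ∀ n : ℤ, (Hc (U : Scheme.{u}) n).map g =
      (Hc (U : Scheme.{u}) n).map (unitCxIso U K').hom ≫
        (Hc (U : Scheme.{u}) n).map
          (((Rf U).mapHomologicalComplex (ComplexShape.up ℤ)).map f) := by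
    intro n
    rw [← Functor.map_comp, hf]
  have hRf_iso : ∀ i : ℤ, m < i → IsIso ((Rf U).map ((Hc X i).map f)) := by
    intro i hi
    apply isIso_map_Hc_of (Rf U) f i
    have h1 := hg_iso i hi
    rw [hcomp i] at h1
    haveI := h1
    exact IsIso.of_isIso_comp_left ((Hc (U : Scheme.{u}) i).map (unitCxIso U K').hom) _
  have hRf_epi : Epi ((Rf U).map ((Hc X m).map f)) := by
    apply epi_map_Hc_of (Rf U) f m
    have h1 := hg_epi
    rw [hcomp m] at h1
    haveI := h1
    exact epi_of_epi ((Hc (U : Scheme.{u}) m).map (unitCxIso U K').hom) _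
  -- supports
  have hsuppP' : ∀ i : ℤ, CohB1.support
      ((Hc X i).obj (((Lf U).mapHomologicalComplex (ComplexShape.up ℤ)).obj K')) ⊆ T := by
    intro i
    refine (QC.support_eq_of_iso (homIso (Lf U) K' i)).subset.trans
      (support_extZero_subset U _ T ?_)
    have e : (Hc (U : Scheme.{u}) i).obj K' ≅ DCoh.HD P i :=
      ((DerivedCategory.homologyFunctorFactors _ i).app K').symm ≪≫
        (Hd (U : Scheme.{u}) i).mapIso (asIso (DerivedCategory.Q.map s) ≪≫ eP)
    exact (QC.support_eq_of_iso e).subset.trans (hPs i)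
  have hsuppE : ∀ i : ℤ, m ≤ i → CohB1.support ((Hc X i).obj KE) ⊆ T := by
    intro i hi
    have e : (Hc X i).obj KE ≅ DCoh.HD E i :=
      ((DerivedCategory.homologyFunctorFactors _ i).app KE).symm ≪≫ (Hd X i).mapIso eE
    exact (QC.support_eq_of_iso e).subset.trans (hsupp i hi)
  have hf_iso : ∀ i : ℤ, m < i → IsIso ((Hc X i).map f) := fun i hi =>
    isIso_of_restrict U _ ((hsuppP' i).trans hTU) ((hsuppE i hi.le).trans hTU) (hRf_iso i hi)
  have hf_epi : Epi ((Hc X m).map f) :=
    epi_of_restrict U _ ((hsuppE m le_rfl).trans hTU) hRf_epi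
  have hsuppD : ∀ i : ℤ, CohB1.support (DCoh.HD (DerivedCategory.Q.obj
      (((Lf U).mapHomologicalComplex (ComplexShape.up ℤ)).obj K')) i) ⊆ T := by
    intro i
    exact (QC.support_eq_of_iso ((DerivedCategory.homologyFunctorFactors _ i).app
      (((Lf U).mapHomologicalComplex (ComplexShape.up ℤ)).obj K'))).subset.trans (hsuppP' i)
  refine ⟨DerivedCategory.Q.obj (((Lf U).mapHomologicalComplex (ComplexShape.up ℤ)).obj K'),
    DerivedCategory.Q.map f ≫ eE.hom, ?_, hsuppD, ?_, ?_⟩
  · rw [isPerfect_iff_perfAt]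
    intro x
    by_cases hxU : x ∈ U
    · obtain ⟨W, i, hi, E₀, hx', hE₀, ⟨e1⟩⟩ := (isPerfect_iff_perfAt P).mp hP ⟨x, hxU⟩
      haveI := hi
      obtain ⟨e2⟩ := nonempty_RD_comp_obj i U.ι (DerivedCategory.Q.obj
        (((Lf U).mapHomologicalComplex (ComplexShape.up ℤ)).obj K'))
      have eP' : (RD U.ι).obj (DerivedCategory.Q.obj
          (((Lf U).mapHomologicalComplex (ComplexShape.up ℤ)).obj K')) ≅ P :=
        RDfac U.ι _ ≪≫ DerivedCategory.Q.mapIso (unitCxIso U K').symm ≪≫
          asIso (DerivedCategory.Q.map s) ≪≫ eP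
      refine ⟨W, i ≫ U.ι, inferInstance, E₀, ?_, hE₀, ⟨e2 ≪≫ (RD i).mapIso eP' ≪≫ e1⟩⟩
      obtain ⟨w, hw⟩ := hx'
      refine ⟨w, ?_⟩
      rw [Scheme.Hom.comp_apply, hw]
      rfl
    · have hxT : x ∉ T := fun h => hxU (hTU h)
      obtain ⟨V, hV⟩ : ∃ V : X.Opens, (V : Set X) = Tᶜ := ⟨⟨Tᶜ, hT.isOpen_compl⟩, rfl⟩
      refine ⟨↑V, V.ι, inferInstance, 0, ?_, Groth.Agent.H4.PSch5.isStrictlyPerfect_zero, ⟨?_⟩⟩
      · rw [Scheme.Opens.range_ι, hV]
        exact hxT
      · have hz : IsZero ((RD V.ι).obj (DerivedCategory.Q.obj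
            (((Lf U).mapHomologicalComplex (ComplexShape.up ℤ)).obj K'))) := by
          refine isZero_of_Hd _ (fun n => ?_)
          obtain ⟨e⟩ := Groth.Agent.H4.PSch4.nonempty_homology_RD_iso V.ι
            (DerivedCategory.Q.obj
              (((Lf U).mapHomologicalComplex (ComplexShape.up ℤ)).obj K')) n
          refine IsZero.of_iso ?_ e
          rw [QC.isZero_restrict_iff, hV, compl_compl]
          exact hsuppD n
        exact hz.iso (DerivedCategory.Q.map_isZero (isZero_zero _))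
  · intro i hi
    rw [Functor.map_comp]
    haveI : IsIso ((Hd X i).map (DerivedCategory.Q.map f)) := (isIso_Hc_iff f i).mp (hf_iso i hi)
    infer_instance
  · rw [Functor.map_comp]
    haveI : Epi ((Hd X m).map (DerivedCategory.Q.map f)) := (epi_Hc_iff f m).mp hf_epi
    infer_instance

end Groth.Agent.LD.MV
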