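import Mathlib
import Groth.Agent.Lib.Lead.FF.Descent
import Groth.Agent.Lib.Lead.QC.Closure
import Groth.Agent.Lib.Lead.QC.Push
import Groth.Agent.Lib.Lead.QC.Pullback

set_option autoImplicit false
universe u
open CategoryTheory CategoryTheory.Limits AlgebraicGeometry TopologicalSpace Opposite

/-!
# Quasi-coherence descends along flat surjective quasi-compact morphisms (arbitrary modules)

Formal core: for an adjunction `L ⊣ R` and an object `M`, the canonical map
`χ : M ⟶ ker (η_{RLM} - RL η_M)` becomes an isomorphism after applying `L` as soon as `L`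
preserves the monomorphism `ker ⟶ RLM` (split equaliser argument).  If `L` reflects
isomorphisms, `M ≅ ker`, and `ker` is quasi-coherent when `LM` is (affine situation).
-/

namespace Groth.Agent.LD.QCDescent

section Formal
variable {C D : Type*} [Category C] [Category D] [Abelian C] [Abelian D]
variable {L : C ⥤ D} {R : D ⥤ C} (adj : L ⊣ R)

/-- first coface map -/
noncomputable def d0 (M : C) : R.obj (L.obj M) ⟶ R.obj (L.obj (R.obj (L.obj M))) :=
  adj.unit.app (R.obj (L.obj M))

/-- second coface map -/
noncomputable def d1 (M : C) : R.obj (L.obj M) ⟶ R.obj (L.obj (R.obj (L.obj M))) :=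
  R.map (L.map (adj.unit.app M))

/-- the difference of the two coface maps `RLM ⇉ RLRLM` -/
noncomputable def amDiff (M : C) : R.obj (L.obj M) ⟶ R.obj (L.obj (R.obj (L.obj M))) :=
  d0 adj M - d1 adj M

lemma unit_d0 (M : C) : adj.unit.app M ≫ d0 adj M = adj.unit.app M ≫ d1 adj M :=
  adj.unit.naturality (adj.unit.app M)

lemma unit_amDiff (M : C) : adj.unit.app M ≫ amDiff adj M = 0 := by
  unfold amDiff
  rw [Preadditive.comp_sub, sub_eq_zero]
  exact unit_d0 adj M

/-- the canonical map from `M` to the equaliser of the two coface maps -/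
noncomputable def chi (M : C) : M ⟶ kernel (amDiff adj M) :=
  kernel.lift _ (adj.unit.app M) (unit_amDiff adj M)

theorem isIso_map_chi (M : C) [Mono (L.map (kernel.ι (amDiff adj M)))] :
    IsIso (L.map (chi adj M)) := by
  have h1 : chi adj M ≫ kernel.ι (amDiff adj M) = adj.unit.app M := kernel.lift_ι _ _ _
  have h2 : adj.counit.app (L.obj M) ≫ L.map (adj.unit.app M) =
      L.map (d1 adj M) ≫ adj.counit.app (L.obj (R.obj (L.obj M))) :=
    (adj.counit.naturality (L.map (adj.unit.app M))).symm
  have h3 : kernel.ι (amDiff adj M) ≫ d1 adj M = kernel.ι (amDiff adj M) ≫ d0 adj M := by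
    have h : kernel.ι (amDiff adj M) ≫ (d0 adj M - d1 adj M) = 0 :=
      kernel.condition (amDiff adj M)
    rw [Preadditive.comp_sub, sub_eq_zero] at h
    exact h.symm
  have h4 : L.map (d0 adj M) ≫ adj.counit.app (L.obj (R.obj (L.obj M))) = 𝟙 _ :=
    adj.left_triangle_components (R.obj (L.obj M))
  refine ⟨⟨L.map (kernel.ι (amDiff adj M)) ≫ adj.counit.app (L.obj M), ?_, ?_⟩⟩
  · rw [← Category.assoc, ← L.map_comp, h1]
    exact adj.left_triangle_components M
  · rw [← cancel_mono (L.map (kernel.ι (amDiff adj M)))]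
    simp only [Category.assoc]
    rw [← L.map_comp, h1, Category.id_comp, h2, ← Category.assoc, ← L.map_comp, h3, L.map_comp,
      Category.assoc, h4, Category.comp_id]

end Formal

variable {X Y : Scheme.{u}}

/-- descent of quasi-coherence along a flat surjective quasi-compact quasi-separated morphism -/
theorem qc_of_qc_pullback_of_qcqs (f : X ⟶ Y) [Flat f] [Surjective f] [QuasiCompact f]
    [QuasiSeparated f] (M : Y.Modules)
    (h : ((Scheme.Modules.pullback f).obj M).IsQuasicoherent) : M.IsQuasicoherent := by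
  let adj := Scheme.Modules.pullbackPushforwardAdjunction f
  haveI := h
  have h1 : ((Scheme.Modules.pushforward f).obj
      ((Scheme.Modules.pullback f).obj M)).IsQuasicoherent := QC.qc_pushforward f _
  haveI := h1
  have h2 : ((Scheme.Modules.pullback f).obj ((Scheme.Modules.pushforward f).obj
      ((Scheme.Modules.pullback f).obj M))).IsQuasicoherent := QC.qc_pullback f _
  haveI := h2
  have h3 : ((Scheme.Modules.pushforward f).obj ((Scheme.Modules.pullback f).obj
      ((Scheme.Modules.pushforward f).obj ((Scheme.Modules.pullback f).obj M)))).IsQuasicoherent :=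
    QC.qc_pushforward f _
  have hk : (kernel (amDiff adj M)).IsQuasicoherent := QC.qc_kernel _ h1 h3
  haveI : Mono ((Scheme.Modules.pullback f).map (kernel.ι (amDiff adj M))) :=
    FF.mono_pullback_of_flat f _
  have hiso : IsIso ((Scheme.Modules.pullback f).map (chi adj M)) := isIso_map_chi adj M
  haveI : ∀ i : Unit, Flat ((fun _ : Unit => f) i) := fun _ => ‹Flat f›
  have hχ : IsIso (chi adj M) := by
    rw [FF.isIso_iff_of_flat_cover (fun _ : Unit => f) (fun y => ⟨(), f.surjective y⟩)]
    intro _; exact hiso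
  exact QC.qc_of_iso (asIso (chi adj M)).symm hk

/-- descent along a finite jointly surjective flat family of affine schemes over an affine
scheme -/
theorem qc_of_qc_pullback_family {V : Scheme.{u}} [IsAffine V] {σ : Type u} [Finite σ]
    (g : σ → Scheme.{u}) [∀ i, IsAffine (g i)] (b : ∀ i, g i ⟶ V) [∀ i, Flat (b i)]
    (hs : ∀ v : V, ∃ i, v ∈ Set.range (b i).base) (M : V.Modules)
    (h : ∀ i, ((Scheme.Modules.pullback (b i)).obj M).IsQuasicoherent) :
    M.IsQuasicoherent := by
  let β : (∐ g) ⟶ V := Sigma.desc b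
  haveI : Flat β := IsZariskiLocalAtSource.sigmaDesc (P := @Flat) (fun i => inferInstance)
  have hβ : ∀ i, Sigma.ι g i ≫ β = b i := fun i => Sigma.ι_desc b i
  haveI : Surjective β := ⟨fun v => by
    obtain ⟨i, x, hx⟩ := hs v
    refine ⟨(Sigma.ι g i).base x, ?_⟩
    have : (Sigma.ι g i ≫ β).base x = v := by rw [hβ i]; exact hx
    exact this⟩
  refine qc_of_qc_pullback_of_qcqs β M ?_
  refine QC.qc_of_openCover _ (sigmaOpenCover g) fun i => ?_
  have hcomm : (sigmaOpenCover g).f i ≫ β = b i := hβ i
  have e : ((Scheme.Modules.pullback β).obj M).restrict ((sigmaOpenCover g).f i) ≅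
      (Scheme.Modules.pullback (b i)).obj M :=
    (Scheme.Modules.restrictFunctorIsoPullback ((sigmaOpenCover g).f i)).app _ ≪≫
    (Scheme.Modules.pullbackComp ((sigmaOpenCover g).f i) β).app M ≪≫
    (Scheme.Modules.pullbackCongr hcomm).app M
  exact QC.qc_of_iso e.symm (h i)

/-- local form: the restriction of `M` to an affine open is quasi-coherent -/
theorem qc_restrict_of_qc_pullback (f : X ⟶ Y) [Flat f] [Surjective f] [QuasiCompact f]
    (M : Y.Modules) (h : ((Scheme.Modules.pullback f).obj M).IsQuasicoherent)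
    {V : Scheme.{u}} [IsAffine V] (j : V ⟶ Y) [IsOpenImmersion j] :
    (M.restrict j).IsQuasicoherent := by
  haveI : CompactSpace ↑(pullback f j) := inferInstance
  let 𝒰 := (pullback f j).affineCover.finiteSubcover
  haveI : ∀ i, IsAffine (𝒰.X i) := fun i => by
    show IsAffine ((pullback f j).affineCover.X _); infer_instance
  let b : ∀ i, 𝒰.X i ⟶ V := fun i => 𝒰.f i ≫ pullback.snd f j
  haveI : ∀ i, Flat (b i) := fun i => by dsimp only [b]; infer_instance
  have hs : ∀ v : V, ∃ i, v ∈ Set.range (b i).base := by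
    intro v
    obtain ⟨p, hp⟩ := (pullback.snd f j).surjective v
    obtain ⟨i, y, hy⟩ := 𝒰.exists_eq p
    refine ⟨i, y, ?_⟩
    have : (𝒰.f i ≫ pullback.snd f j) y = v := by
      rw [Scheme.Hom.comp_apply, hy, hp]
    exact this
  have hcomm : ∀ i, b i ≫ j = (𝒰.f i ≫ pullback.fst f j) ≫ f := fun i => by
    simp only [b, Category.assoc, pullback.condition]
  refine qc_of_qc_pullback_family (fun i => 𝒰.X i) b hs _ fun i => ?_
  have e : (Scheme.Modules.pullback (b i)).obj (M.restrict j) ≅
      (Scheme.Modules.pullback (𝒰.f i ≫ pullback.fst f j)).obj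
        ((Scheme.Modules.pullback f).obj M) :=
    (Scheme.Modules.pullback (b i)).mapIso
        ((Scheme.Modules.restrictFunctorIsoPullback j).app M) ≪≫
      (Scheme.Modules.pullbackComp (b i) j).app M ≪≫
      (Scheme.Modules.pullbackCongr (hcomm i)).app M ≪≫
      ((Scheme.Modules.pullbackComp (𝒰.f i ≫ pullback.fst f j) f).app M).symm
  haveI := h
  exact QC.qc_of_iso e.symm (QC.qc_pullback _ _)

/-- **quasi-coherence descends along flat surjective quasi-compact morphisms**, for arbitrary
modules. -/
theorem qc_of_qc_pullback (f : X ⟶ Y) [Flat f] [Surjective f] [QuasiCompact f] (M : Y.Modules)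
    (h : ((Scheme.Modules.pullback f).obj M).IsQuasicoherent) : M.IsQuasicoherent :=
  QC.qc_of_openCover M Y.affineCover fun k => qc_restrict_of_qc_pullback f M h _

theorem qc_iff_qc_pullback (f : X ⟶ Y) [Flat f] [Surjective f] [QuasiCompact f]
    (M : Y.Modules) :
    M.IsQuasicoherent ↔ ((Scheme.Modules.pullback f).obj M).IsQuasicoherent :=
  ⟨fun h => by haveI := h; exact QC.qc_pullback f M, qc_of_qc_pullback f M⟩

end Groth.Agent.LD.QCDescent
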