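import Groth.Agent.Lib.Lead.Inj.ExtZeroGen
import Groth.Agent.H4.SPt6
import Groth.Agent.Lib.Lead.QC.UnitKer
import Groth.Agent.Lib.Lead.QC.Coprod

/-!
# The Mayer–Vietoris triangle for extension by zero (S6513)

For opens `U ∪ V = X` and `E ∈ D(O_X)` there is a distinguished triangle
`j_{U∩V,!}(E|_{U∩V}) → j_{U,!}(E|_U) ⊕ j_{V,!}(E|_V) → E → `.
-/

set_option autoImplicit false
universe u
open CategoryTheory CategoryTheory.Limits AlgebraicGeometry TopologicalSpace Opposite

attribute [local instance] HasDerivedCategory.standard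

namespace Groth.Agent.LD.MV

section General

lemma map_eq_zero_of_counit_comp {𝒜 ℬ : Type*} [Category 𝒜] [Category ℬ] [Preadditive 𝒜]
    [Preadditive ℬ] {L : ℬ ⥤ 𝒜} {R : 𝒜 ⥤ ℬ} (adj : L ⊣ R) [R.Additive] {M N : 𝒜} (h : M ⟶ N)
    (hh : adj.counit.app M ≫ h = 0) : R.map h = 0 := by
  have h1 : adj.unit.app (R.obj M) ≫ R.map (adj.counit.app M ≫ h) = R.map h := by
    rw [R.map_comp, ← Category.assoc, adj.right_triangle_components]
    exact Category.id_comp _
  rw [← h1, hh, R.map_zero, comp_zero]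

/-- a subobject through which the honest fibre product factors is the fibre product. -/
lemma isPullback_of_factor {C : Type*} [Category C] [HasPullbacks C] {M TU TV TW : C}
    (eU : TU ⟶ M) (eV : TV ⟶ M) (eW : TW ⟶ M) [Mono eU] [Mono eV] [Mono eW]
    (aU : TW ⟶ TU) (aV : TW ⟶ TV) (hU : aU ≫ eU = eW) (hV : aV ≫ eV = eW)
    (φ : pullback eU eV ⟶ TW) (hφ : φ ≫ eW = pullback.fst eU eV ≫ eU) :
    IsPullback aU aV eU eV := by
  have w : aU ≫ eU = aV ≫ eV := by rw [hU, hV]
  refine ⟨⟨w⟩, ⟨PullbackCone.IsLimit.mk w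
    (fun s => pullback.lift s.fst s.snd s.condition ≫ φ) ?_ ?_ ?_⟩⟩
  · intro s
    rw [← cancel_mono eU, Category.assoc, Category.assoc, hU, hφ, pullback.lift_fst_assoc]
  · intro s
    rw [← cancel_mono eV, Category.assoc, Category.assoc, hV, hφ, pullback.lift_fst_assoc,
      s.condition]
  · intro s m h1 _
    rw [← cancel_mono eW, Category.assoc, hφ, pullback.lift_fst_assoc, ← hU, ← Category.assoc, h1]

open Pretriangulated in
/-- transporting a distinguished triangle along isomorphisms of its vertices. -/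
lemma exists_distinguished_of_isos {C : Type*} [Category C] [HasZeroObject C] [HasShift C ℤ]
    [Preadditive C] [∀ n : ℤ, (shiftFunctor C n).Additive] [Pretriangulated C]
    (T : Triangle C) (hT : T ∈ distTriang C) {A₁ A₂ A₃ : C}
    (e₁ : T.obj₁ ≅ A₁) (e₂ : T.obj₂ ≅ A₂) (e₃ : T.obj₃ ≅ A₃) :
    ∃ (a : A₁ ⟶ A₂) (b : A₂ ⟶ A₃) (c : A₃ ⟶ A₁⟦(1 : ℤ)⟧),
      Triangle.mk a b c ∈ distTriang C := by
  refine ⟨e₁.inv ≫ T.mor₁ ≫ e₂.hom, e₂.inv ≫ T.mor₂ ≫ e₃.hom,
    e₃.inv ≫ T.mor₃ ≫ e₁.hom⟦(1 : ℤ)⟧', ?_⟩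
  refine isomorphic_distinguished _ hT _
    (Triangle.isoMk _ _ e₁.symm e₂.symm e₃.symm ?_ ?_ ?_)
  · show (e₁.inv ≫ T.mor₁ ≫ e₂.hom) ≫ e₂.inv = e₁.inv ≫ T.mor₁
    rw [Category.assoc, Category.assoc, e₂.hom_inv_id, Category.comp_id]
  · show (e₂.inv ≫ T.mor₂ ≫ e₃.hom) ≫ e₃.inv = e₂.inv ≫ T.mor₂
    rw [Category.assoc, Category.assoc, e₃.hom_inv_id, Category.comp_id]
  · show (e₃.inv ≫ T.mor₃ ≫ (shiftFunctor C (1 : ℤ)).map e₁.hom) ≫
      (shiftFunctor C (1 : ℤ)).map e₁.inv = e₃.inv ≫ T.mor₃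
    rw [Category.assoc, Category.assoc, ← Functor.map_comp, e₁.hom_inv_id, CategoryTheory.Functor.map_id,
      Category.comp_id]

/-- components of a lift to a biproduct of complexes. -/
lemma biprod_lift_f_biprodXIso_hom {C ι : Type*} [Category C] [Preadditive C]
    {c : ComplexShape ι} {M K L : HomologicalComplex C c}
    [∀ i, HasBinaryBiproduct (K.X i) (L.X i)] (α : M ⟶ K) (β : M ⟶ L) (i : ι) :
    (biprod.lift α β).f i ≫ (HomologicalComplex.biprodXIso K L i).hom =
      biprod.lift (α.f i) (β.f i) := by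
  apply biprod.hom_ext <;> simp

/-- components of a morphism from a biproduct of complexes. -/
lemma biprodXIso_hom_biprod_desc_f {C ι : Type*} [Category C] [Preadditive C]
    {c : ComplexShape ι} {M K L : HomologicalComplex C c}
    [∀ i, HasBinaryBiproduct (K.X i) (L.X i)] (α : K ⟶ M) (β : L ⟶ M) (i : ι) :
    (HomologicalComplex.biprodXIso K L i).hom ≫ biprod.desc (α.f i) (β.f i) =
      (biprod.desc α β).f i := by
  rw [← cancel_epi (HomologicalComplex.biprodXIso K L i).inv, Iso.inv_hom_id_assoc]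
  apply biprod.hom_ext' <;> simp

end General

variable {X : Scheme.{u}}

/-- restriction to an open. -/
noncomputable abbrev Rf (W : X.Opens) : X.Modules ⥤ (W : Scheme.{u}).Modules :=
  Scheme.Modules.restrictFunctor W.ι

/-- extension by zero from an open. -/
noncomputable abbrev Lf (W : X.Opens) : (W : Scheme.{u}).Modules ⥤ X.Modules :=
  CxOX.extZero W.ι

/-- the adjunction. -/
noncomputable abbrev adjW (W : X.Opens) : Lf W ⊣ Rf W := CxOX.extZeroAdj W.ι

/-- the stalks of `S` vanish outside `W`. -/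
def SuppIn (W : X.Opens) (S : X.Modules) : Prop :=
  ∀ y : X, y ∉ W → IsZero ((DerSch.stalkFunctor X y).obj S)

lemma SuppIn.of_mono {W : X.Opens} {S S' : X.Modules} (h : SuppIn W S') (m : S ⟶ S') [Mono m] :
    SuppIn W S :=
  fun y hy => IsZero.of_mono ((DerSch.stalkFunctor X y).map m) (h y hy)

lemma SuppIn.mono {U W : X.Opens} {S : X.Modules} (h : SuppIn U S) (hUW : U ≤ W) : SuppIn W S :=
  fun y hy => h y (fun hyU => hy (hUW hyU))

lemma SuppIn.inf {U V : X.Opens} {S : X.Modules} (hU : SuppIn U S) (hV : SuppIn V S) :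
    SuppIn (U ⊓ V) S := by
  intro y hy
  by_cases hyU : y ∈ U
  · exact hV y (fun hyV => hy ⟨hyU, hyV⟩)
  · exact hU y hyU

lemma isZero_restrict_sky (W : X.Opens) (y : X) (hy : y ∉ W)
    (Q : ModuleCat.{u} (X.presheaf.stalk y)) :
    IsZero ((Rf W).obj ((H4.SPt4.skyFunctor y).obj Q)) := by
  refine QC.isZero_of_subsingleton _ (fun O => ?_)
  have hO : y ∉ W.ι ''ᵁ O := fun h => hy (W.ι_image_le O h)
  change Subsingleton (PLift (y ∈ W.ι ''ᵁ O) → Q)
  exact ⟨fun a b => funext fun h => absurd h.down hO⟩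

/-- the stalks of an extension by zero vanish outside the open. -/
lemma isZero_stalk_extZero (W : X.Opens) (A : (W : Scheme.{u}).Modules) (y : X) (hy : y ∉ W) :
    IsZero ((DerSch.stalkFunctor X y).obj ((Lf W).obj A)) := by
  rw [IsZero.iff_id_eq_zero]
  apply ((H4.SPt4.stalkSkyAdj y).homEquiv _ _).injective
  apply ((adjW W).homEquiv _ _).injective
  exact (isZero_restrict_sky W y hy _).eq_of_tgt _ _

lemma suppIn_T (W : X.Opens) (M : X.Modules) : SuppIn W ((Lf W).obj ((Rf W).obj M)) :=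
  fun y hy => isZero_stalk_extZero W _ y hy

lemma isZero_stalk_of_counit_comp_epi (W : X.Opens) {M C : X.Modules} (π : M ⟶ C) [Epi π]
    (h : (adjW W).counit.app M ≫ π = 0) (y : X) (hy : y ∈ W) :
    IsZero ((DerSch.stalkFunctor X y).obj C) := by
  haveI : (Rf W).PreservesEpimorphisms :=
    Functor.preservesEpimorphisms_of_adjunction (Scheme.Modules.restrictAdjunction W.ι)
  have h0 : (Rf W).map π = 0 := map_eq_zero_of_counit_comp (adjW W) π h
  have hR : IsZero ((Rf W).obj C) := IsZero.of_epi_eq_zero _ h0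
  have hs := QC.subsingleton_stalk_of_isZero_restrict C W hR hy
  exact ModuleCat.isZero_iff_subsingleton.mpr hs

/-- a module whose stalks vanish outside `W` is the extension by zero of its restriction. -/
lemma isIso_counit_of_suppIn (W : X.Opens) (S : X.Modules) (h : SuppIn W S) :
    IsIso ((adjW W).counit.app S) := by
  haveI := ExtZeroGen.mono_counit W.ι S
  have hC : IsZero (cokernel ((adjW W).counit.app S)) := by
    rw [H4.SPt6.isZero_iff_stalk]
    intro y
    by_cases hy : y ∈ W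
    · exact isZero_stalk_of_counit_comp_epi W (cokernel.π ((adjW W).counit.app S))
        (cokernel.condition _) y hy
    · haveI : (DerSch.stalkFunctor X y).PreservesEpimorphisms :=
        Functor.preservesEpimorphisms_of_adjunction (H4.SPt4.stalkSkyAdj y)
      exact IsZero.of_epi ((DerSch.stalkFunctor X y).map
        (cokernel.π ((adjW W).counit.app S))) (h y hy)
  haveI : Epi ((adjW W).counit.app S) := Preadditive.epi_of_isZero_cokernel _ hC
  exact isIso_of_mono_of_epi _

lemma isIso_counit_T {W' W : X.Opens} (hle : W' ≤ W) (M : X.Modules) :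
    IsIso ((adjW W).counit.app ((Lf W').obj ((Rf W').obj M))) :=
  isIso_counit_of_suppIn W _ ((suppIn_T W' M).mono hle)

/-- the transition map `j_{W'!}(M|_{W'}) ⟶ j_{W!}(M|_W)` for `W' ≤ W`. -/
noncomputable def trApp {W' W : X.Opens} (hle : W' ≤ W) (M : X.Modules) :
    (Lf W').obj ((Rf W').obj M) ⟶ (Lf W).obj ((Rf W).obj M) :=
  haveI := isIso_counit_T hle M
  inv ((adjW W).counit.app ((Lf W').obj ((Rf W').obj M))) ≫
    (Lf W).map ((Rf W).map ((adjW W').counit.app M))

lemma trApp_counit {W' W : X.Opens} (hle : W' ≤ W) (M : X.Modules) :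
    trApp hle M ≫ (adjW W).counit.app M = (adjW W').counit.app M := by
  haveI := isIso_counit_T hle M
  unfold trApp
  rw [Category.assoc, IsIso.inv_comp_eq]
  exact (adjW W).counit.naturality ((adjW W').counit.app M)

lemma trApp_naturality {W' W : X.Opens} (hle : W' ≤ W) {M N : X.Modules} (f : M ⟶ N) :
    (Lf W').map ((Rf W').map f) ≫ trApp hle N = trApp hle M ≫ (Lf W).map ((Rf W).map f) := by
  haveI := ExtZeroGen.mono_counit W.ι N
  have h1 : (Lf W').map ((Rf W').map f) ≫ (adjW W').counit.app N = (adjW W').counit.app M ≫ f :=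
    (adjW W').counit.naturality f
  have h2 : (Lf W).map ((Rf W).map f) ≫ (adjW W).counit.app N = (adjW W).counit.app M ≫ f :=
    (adjW W).counit.naturality f
  rw [← cancel_mono ((adjW W).counit.app N), Category.assoc, Category.assoc, trApp_counit, h1, h2,
    ← Category.assoc, trApp_counit]

lemma isPullback_tr (U V : X.Opens) (M : X.Modules) :
    IsPullback (trApp (inf_le_left : U ⊓ V ≤ U) M) (trApp (inf_le_right : U ⊓ V ≤ V) M)
      ((adjW U).counit.app M) ((adjW V).counit.app M) := by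
  haveI := ExtZeroGen.mono_counit U.ι M
  haveI := ExtZeroGen.mono_counit V.ι M
  haveI := ExtZeroGen.mono_counit (U ⊓ V).ι M
  have hPU : SuppIn U (pullback ((adjW U).counit.app M) ((adjW V).counit.app M)) :=
    (suppIn_T U M).of_mono (pullback.fst _ _)
  have hPV : SuppIn V (pullback ((adjW U).counit.app M) ((adjW V).counit.app M)) :=
    (suppIn_T V M).of_mono (pullback.snd _ _)
  haveI := isIso_counit_of_suppIn (U ⊓ V) _ (hPU.inf hPV)
  refine isPullback_of_factor _ _ ((adjW (U ⊓ V)).counit.app M) _ _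
    (trApp_counit _ M) (trApp_counit _ M)
    (inv ((adjW (U ⊓ V)).counit.app
        (pullback ((adjW U).counit.app M) ((adjW V).counit.app M))) ≫
      (Lf (U ⊓ V)).map ((Rf (U ⊓ V)).map
        (pullback.fst ((adjW U).counit.app M) ((adjW V).counit.app M) ≫
          (adjW U).counit.app M))) ?_
  rw [Category.assoc, IsIso.inv_comp_eq]
  exact (adjW (U ⊓ V)).counit.naturality _

lemma epi_desc (U V : X.Opens) (hUV : U ⊔ V = ⊤) (M : X.Modules) :
    Epi (biprod.desc ((adjW U).counit.app M) (-(adjW V).counit.app M)) := by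
  apply Preadditive.epi_of_isZero_cokernel
  have hc := cokernel.condition (biprod.desc ((adjW U).counit.app M) (-(adjW V).counit.app M))
  have hU : (adjW U).counit.app M ≫
      cokernel.π (biprod.desc ((adjW U).counit.app M) (-(adjW V).counit.app M)) = 0 := by
    rw [← biprod.inl_desc_assoc ((adjW U).counit.app M) (-(adjW V).counit.app M), hc, comp_zero]
  have hV : (adjW V).counit.app M ≫
      cokernel.π (biprod.desc ((adjW U).counit.app M) (-(adjW V).counit.app M)) = 0 := by
    rw [← neg_eq_zero, ← Preadditive.neg_comp,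
      ← biprod.inr_desc_assoc ((adjW U).counit.app M) (-(adjW V).counit.app M), hc, comp_zero]
  rw [H4.SPt6.isZero_iff_stalk]
  intro y
  have hy : y ∈ U ⊔ V := by rw [hUV]; exact Opens.mem_top y
  rcases Opens.mem_sup.mp hy with hyU | hyV
  · exact isZero_stalk_of_counit_comp_epi U _ hU y hyU
  · exact isZero_stalk_of_counit_comp_epi V _ hV y hyV

/-- the Mayer–Vietoris short complex of a module. -/
noncomputable def mvSC (U V : X.Opens) (M : X.Modules) : ShortComplex X.Modules :=
  ShortComplex.mk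
    (biprod.lift (trApp (inf_le_left : U ⊓ V ≤ U) M) (trApp (inf_le_right : U ⊓ V ≤ V) M))
    (biprod.desc ((adjW U).counit.app M) (-(adjW V).counit.app M))
    (by rw [biprod.lift_desc, Preadditive.comp_neg, trApp_counit, trApp_counit, add_neg_cancel])

lemma mvSC_shortExact (U V : X.Opens) (hUV : U ⊔ V = ⊤) (M : X.Modules) :
    (mvSC U V M).ShortExact :=
  ShortComplex.ShortExact.mk'
    (ShortComplex.exact_of_f_is_kernel (mvSC U V M) (isPullback_tr U V M).isLimitKernelFork)
    (isPullback_tr U V M).mono_shortComplex'_f (epi_desc U V hUV M)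

/-! ### Complexes -/

/-- `j_{W!}(K|_W)` termwise. -/
noncomputable abbrev Tcx (W : X.Opens) (K : CochainComplex X.Modules ℤ) :
    CochainComplex X.Modules ℤ :=
  ((Lf W).mapHomologicalComplex (ComplexShape.up ℤ)).obj
    (((Rf W).mapHomologicalComplex (ComplexShape.up ℤ)).obj K)

noncomputable def counitCx (W : X.Opens) (K : CochainComplex X.Modules ℤ) : Tcx W K ⟶ K where
  f i := (adjW W).counit.app (K.X i)
  comm' i j _ := ((adjW W).counit.naturality (K.d i j)).symm

noncomputable def trCx {W' W : X.Opens} (hle : W' ≤ W) (K : CochainComplex X.Modules ℤ) :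
    Tcx W' K ⟶ Tcx W K where
  f i := trApp hle (K.X i)
  comm' i j _ := (trApp_naturality hle (K.d i j)).symm

lemma trCx_counitCx {W' W : X.Opens} (hle : W' ≤ W) (K : CochainComplex X.Modules ℤ) :
    trCx hle K ≫ counitCx W K = counitCx W' K := by
  refine HomologicalComplex.hom_ext _ _ (fun i => ?_)
  exact trApp_counit hle (K.X i)

/-- the Mayer–Vietoris short complex of a complex. -/
noncomputable def mvCx (U V : X.Opens) (K : CochainComplex X.Modules ℤ) :
    ShortComplex (CochainComplex X.Modules ℤ) :=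
  ShortComplex.mk
    (biprod.lift (trCx (inf_le_left : U ⊓ V ≤ U) K) (trCx (inf_le_right : U ⊓ V ≤ V) K))
    (biprod.desc (counitCx U K) (-(counitCx V K)))
    (by rw [biprod.lift_desc, Preadditive.comp_neg, trCx_counitCx, trCx_counitCx, add_neg_cancel])

noncomputable def mvIso (U V : X.Opens) (K : CochainComplex X.Modules ℤ) (i : ℤ) :
    (mvCx U V K).map (HomologicalComplex.eval X.Modules (ComplexShape.up ℤ) i) ≅
      mvSC U V (K.X i) :=
  ShortComplex.isoMk (Iso.refl _) (HomologicalComplex.biprodXIso (Tcx U K) (Tcx V K) i)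
    (Iso.refl _)
    ((Category.id_comp _).trans
      (biprod_lift_f_biprodXIso_hom (trCx (inf_le_left : U ⊓ V ≤ U) K)
        (trCx (inf_le_right : U ⊓ V ≤ V) K) i).symm)
    ((biprodXIso_hom_biprod_desc_f (counitCx U K) (-(counitCx V K)) i).trans
      (Category.comp_id _).symm)

lemma mvCx_shortExact (U V : X.Opens) (hUV : U ⊔ V = ⊤) (K : CochainComplex X.Modules ℤ) :
    (mvCx U V K).ShortExact :=
  HomologicalComplex.shortExact_of_degreewise_shortExact _ (fun i =>
    ShortComplex.shortExact_of_iso (mvIso U V K i).symm (mvSC_shortExact U V hUV (K.X i)))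

/-! ### The derived category -/

/-- `Q(j_{W!}(K|_W)) ≅ j_{W!}(E|_W)` for `Q K ≅ E`. -/
noncomputable def eW (W : X.Opens) [PreservesFiniteLimits (CxOX.extZero W.ι)]
    (K : CochainComplex X.Modules ℤ) {E : DCoh.D X} (e : DerivedCategory.Q.obj K ≅ E) :
    DerivedCategory.Q.obj (Tcx W K) ≅
      (CxOX.extZeroD W.ι).obj ((DCoh.restrictD W.ι).obj E) :=
  ((Functor.mapDerivedCategoryFactors (CxOX.extZero W.ι)).app
      (((Scheme.Modules.restrictFunctor W.ι).mapHomologicalComplex (ComplexShape.up ℤ)).obj K)).symm ≪≫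
    (CxOX.extZeroD W.ι).mapIso
      (((Functor.mapDerivedCategoryFactors (Scheme.Modules.restrictFunctor W.ι)).app K).symm ≪≫
        (DCoh.restrictD W.ι).mapIso e)

/-- **S6513**: the Mayer–Vietoris triangle for extension by zero. -/
theorem exists_mv_triangle (U V : X.Opens) (hUV : U ⊔ V = ⊤)
    [PreservesFiniteLimits (CxOX.extZero U.ι)] [PreservesFiniteLimits (CxOX.extZero V.ι)]
    [PreservesFiniteLimits (CxOX.extZero (U ⊓ V).ι)] (E : DCoh.D X) :
    ∃ (a : (CxOX.extZeroD (U ⊓ V).ι).obj ((DCoh.restrictD (U ⊓ V).ι).obj E) ⟶ ((CxOX.extZeroD U.ι).obj ((DCoh.restrictD U.ι).obj E) ⊞ (CxOX.extZeroD V.ι).obj ((DCoh.restrictD V.ι).obj E))) (b : ((CxOX.extZeroD U.ι).obj ((DCoh.restrictD U.ι).obj E) ⊞ (CxOX.extZeroD V.ι).obj ((DCoh.restrictD V.ι).obj E)) ⟶ E) (c : E ⟶ ((CxOX.extZeroD (U ⊓ V).ι).obj ((DCoh.restrictD (U ⊓ V).ι).obj E))⟦(1 : ℤ)⟧),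
      Pretriangulated.Triangle.mk a b c ∈ Pretriangulated.distinguishedTriangles := by
  have e : DerivedCategory.Q.obj (DerivedCategory.Q.objPreimage E) ≅ E :=
    DerivedCategory.Q.objObjPreimageIso E
  have hT := DerivedCategory.triangleOfSES_distinguished
    (mvCx_shortExact U V hUV (DerivedCategory.Q.objPreimage E))
  haveI : PreservesBinaryBiproducts (DerivedCategory.Q (C := X.Modules)) :=
    preservesBinaryBiproducts_of_preservesBiproducts _
  exact exists_distinguished_of_isos _ hT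
    (eW (U ⊓ V) _ e)
    ((DerivedCategory.Q).mapBiprod _ _ ≪≫ biprod.mapIso (eW U _ e) (eW V _ e))
    e

end Groth.Agent.LD.MV
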