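import Mathlib
import Groth.Prelude.Def_BrSev
import Groth.Agent.Lib.Lead.MV.QCDescent
import Groth.Agent.Lib.Lead.LF.PullTensor
import Groth.Agent.Lib.Lead.PN.SerreVanish
import Groth.Agent.Lib.Lead.QC.PullInv
import Groth.Agent.Lib.Lead.QC.InvBasis

set_option autoImplicit false
universe u
open CategoryTheory CategoryTheory.Limits AlgebraicGeometry TopologicalSpace Opposite

/-!
# Tensor products of modules of twisting type on a Severi–Brauer scheme (S14204)
-/

namespace Groth.Agent.LD.TwPow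

section Sigma
variable {X : Scheme.{u}}

instance additive_flip_obj (B : X.Modules) :
    ((DCoh.tensorBi (X := X)).flip.obj B).Additive where
  map_add {P Q f g} := by
    show ((DCoh.tensorBi (X := X)).map (f + g)).app B =
      ((DCoh.tensorBi (X := X)).map f).app B + ((DCoh.tensorBi (X := X)).map g).app B
    rw [Functor.map_add, NatTrans.app_add]

/-- `(∐_r A) ⊗ (∐_s B) ≅ ∐_{rs} (A ⊗ B)`. -/
noncomputable def sigmaTensorSigmaIso (A B : X.Modules) (r s : ℕ) :
    CohB1.tensorMod (∐ fun _ : Fin r => A) (∐ fun _ : Fin s => B) ≅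
      ∐ fun _ : Fin (r * s) => CohB1.tensorMod A B :=
  (show CohB1.tensorMod (∐ fun _ : Fin r => A) (∐ fun _ : Fin s => B) ≅
      ∐ fun _ : Fin s => ((DCoh.tensorBi (X := X)).obj (∐ fun _ : Fin r => A)).obj B from
    PreservesCoproduct.iso ((DCoh.tensorBi (X := X)).obj (∐ fun _ : Fin r => A))
      (fun _ : Fin s => B)) ≪≫
  Sigma.mapIso (fun _ : Fin s =>
    (show ((DCoh.tensorBi (X := X)).obj (∐ fun _ : Fin r => A)).obj B ≅
        ∐ fun _ : Fin r => CohB1.tensorMod A B from
      PreservesCoproduct.iso ((DCoh.tensorBi (X := X)).flip.obj B) (fun _ : Fin r => A))) ≪≫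
  sigmaSigmaIso (fun _ : Fin s => Fin r) (fun _ _ => CohB1.tensorMod A B) ≪≫
  Sigma.whiskerEquiv (f := fun _ : (Σ _ : Fin s, Fin r) => CohB1.tensorMod A B)
    (g := fun _ : Fin (r * s) => CohB1.tensorMod A B)
    ((Equiv.sigmaEquivProd (Fin s) (Fin r)).trans
      (finProdFinEquiv.trans (finCongr (Nat.mul_comm s r))))
    (fun _ => Iso.refl _)

end Sigma

section Main
variable {k : Type u} [Field k] {X : Scheme.{u}} (f : X ⟶ Spec (CommRingCat.of k)) (n : ℕ)
  (K : Type u) [Field K] [Algebra k K]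

theorem isTwPow_tensor (e : BrSev.Splitting f K n) (j l : ℤ) (r s : ℕ) (W W' : X.Modules)
    (hWt : BrSev.IsTwPow e j r W) (hW't : BrSev.IsTwPow e l s W') :
    BrSev.IsTwPow e (j + l) (r * s) (CohB1.tensorMod W W') := by
  obtain ⟨a⟩ := hWt
  obtain ⟨b⟩ := hW't
  have hfs : Flat (Spec.map (CommRingCat.ofHom (algebraMap k K))) ∧
      Surjective (Spec.map (CommRingCat.ofHom (algebraMap k K))) := by
    rw [flat_and_surjective_SpecMap_iff]
    exact (RingHom.faithfullyFlat_algebraMap_iff).mpr inferInstance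
  haveI := hfs.1
  haveI := hfs.2
  haveI : Flat (BrSev.proj f K) := inferInstance
  haveI : Surjective (BrSev.proj f K) := inferInstance
  haveI : QuasiCompact (BrSev.proj f K) := inferInstance
  have hinv0 : ∀ d : ℤ, PicF.IsInvertible (Twist.twistProjSpace n K d) := fun d =>
    PN.isInvertible_twist n K d
  have hinv : ∀ d : ℤ, PicF.IsInvertible (e.twist d) := fun d =>
    QC.isInvertible_pullback e.iso.hom (hinv0 d)
  have hqc : ∀ d : ℤ, (e.twist d).IsQuasicoherent := fun d => QC.qc_of_isInvertible _ (hinv d)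
  have hpow : ∀ (d : ℤ) (m : ℕ), (BrSev.pow (e.twist d) m).IsQuasicoherent := fun d m =>
    QC.qc_finColimit (Discrete.functor fun _ : Fin m => e.twist d) (fun _ => hqc d)
  haveI hW : W.IsQuasicoherent :=
    QCDescent.qc_of_qc_pullback (BrSev.proj f K) W (QC.qc_of_iso a.symm (hpow j r))
  haveI hW' : W'.IsQuasicoherent :=
    QCDescent.qc_of_qc_pullback (BrSev.proj f K) W' (QC.qc_of_iso b.symm (hpow l s))
  have tm : CohB1.tensorMod (e.twist j) (e.twist l) ≅ e.twist (j + l) :=
    (QC.pbTensorIso e.iso.hom _ _ (hinv0 j) (hinv0 l)).symm ≪≫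
      (Scheme.Modules.pullback e.iso.hom).mapIso (PN.twistMulIso n K j l (j + l) rfl)
  exact ⟨QC.pbTensorIsoQC (BrSev.proj f K) W W' ≪≫ QC.tensorIso' a b ≪≫
    sigmaTensorSigmaIso _ _ r s ≪≫ Sigma.mapIso (fun _ => tm)⟩

end Main

end Groth.Agent.LD.TwPow
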