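import Mathlib
import Groth.Agent.Lib.Helper9.Misc.CubicLines1

/-!
# Lines on a smooth cubic threefold meeting two incident lines (S15252)
-/

set_option autoImplicit false
set_option linter.unusedSectionVars false

namespace Groth.Agent.LD.CubicThree

open MvPolynomial Groth.Agent.H9.CubicFormK Groth.Agent.H9.CubicLines

universe u

section conics

variable {K : Type u} [Field K] [CharZero K] [IsAlgClosed K]

theorem binquad_root (a b c : K) :
    ∃ s t : K, (s ≠ 0 ∨ t ≠ 0) ∧ a * s ^ 2 + b * s * t + c * t ^ 2 = 0 := by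
  by_cases ha : a = 0
  · exact ⟨1, 0, Or.inl one_ne_zero, by rw [ha]; ring⟩
  · obtain ⟨s0, hs0⟩ := IsAlgClosed.exists_eq_mul_self (discrim a b c)
    obtain ⟨x, hx⟩ := exists_quadratic_eq_zero ha ⟨s0, hs0⟩
    exact ⟨x, 1, Or.inr one_ne_zero, by linear_combination hx⟩

variable {V : Type*} [AddCommGroup V] [Module K V]

theorem bil_expand (B : V →ₗ[K] V →ₗ[K] K) (hB : ∀ x y, B x y = B y x) (a b : V) (s t : K) :
    B (s • a + t • b) (s • a + t • b) =
      s ^ 2 * B a a + 2 * s * t * B a b + t ^ 2 * B b b := by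
  simp only [map_add, map_smul, LinearMap.add_apply, LinearMap.smul_apply, smul_eq_mul]
  rw [hB b a]
  ring

theorem exists_not_mem_of_finrank_lt (W : Submodule K V)
    (h : Module.finrank K W < Module.finrank K V) : ∃ u, u ∉ W := by
  by_contra hcon
  push_neg at hcon
  have : W = ⊤ := eq_top_iff.mpr (fun x _ => hcon x)
  rw [this, finrank_top] at h
  exact lt_irrefl _ h

theorem two_conics_aux [FiniteDimensional K V] (hV : Module.finrank K V = 3)
    (B1 B2 : V →ₗ[K] V →ₗ[K] K) (h1 : ∀ x y, B1 x y = B1 y x) (h2 : ∀ x y, B2 x y = B2 y x)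
    (l m : K) (hm : m ≠ 0) (r : V) (hr : r ≠ 0) (hrad : ∀ y, l * B1 r y + m * B2 r y = 0) :
    ∃ v : V, v ≠ 0 ∧ B1 v v = 0 ∧ B2 v v = 0 := by
  have hfr1 : Module.finrank K (Submodule.span K {r}) = 1 := finrank_span_singleton hr
  obtain ⟨u1, hu1⟩ := exists_not_mem_of_finrank_lt (Submodule.span K {r})
    (by rw [hfr1, hV]; norm_num)
  have hu10 : u1 ≠ 0 := by
    rintro rfl
    exact hu1 (Submodule.zero_mem _)
  have hfr2 : Module.finrank K ↥(Submodule.span K {r} ⊔ Submodule.span K {u1}) ≤ 2 := by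
    have := Submodule.finrank_add_le_finrank_add_finrank (Submodule.span K {r})
      (Submodule.span K {u1})
    rw [hfr1, finrank_span_singleton hu10] at this
    exact this
  obtain ⟨u2, hu2⟩ := exists_not_mem_of_finrank_lt
    (Submodule.span K {r} ⊔ Submodule.span K {u1}) (by rw [hV]; omega)
  have hI1 : ∀ s t : K, s • u1 + t • u2 ∈ Submodule.span K {r} → s = 0 ∧ t = 0 := by
    intro s t hst
    have ht : t = 0 := by
      by_contra ht
      apply hu2
      have h3 : t • u2 ∈ Submodule.span K {r} ⊔ Submodule.span K {u1} := by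
        have : t • u2 = (s • u1 + t • u2) - s • u1 := by abel
        rw [this]
        exact Submodule.sub_mem _ (Submodule.mem_sup_left hst)
          (Submodule.mem_sup_right (Submodule.smul_mem _ _ (Submodule.mem_span_singleton_self u1)))
      exact (Submodule.smul_mem_iff _ ht).1 h3
    refine ⟨?_, ht⟩
    by_contra hs
    apply hu1
    rw [ht, zero_smul, add_zero] at hst
    exact (Submodule.smul_mem_iff _ hs).1 hst
  obtain ⟨s, t, hst, hroot⟩ := binquad_root (l * B1 u1 u1 + m * B2 u1 u1)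
    (2 * (l * B1 u1 u2 + m * B2 u1 u2)) (l * B1 u2 u2 + m * B2 u2 u2)
  have hur : s • u1 + t • u2 ∉ Submodule.span K {r} := by
    intro h
    obtain ⟨hs, ht⟩ := hI1 s t h
    rcases hst with h' | h'
    · exact h' hs
    · exact h' ht
  have hMu : l * B1 (s • u1 + t • u2) (s • u1 + t • u2) +
      m * B2 (s • u1 + t • u2) (s • u1 + t • u2) = 0 := by
    rw [bil_expand B1 h1, bil_expand B2 h2]
    linear_combination hroot
  obtain ⟨u, hur', hMu'⟩ : ∃ u : V, u ∉ Submodule.span K {r} ∧ l * B1 u u + m * B2 u u = 0 :=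
    ⟨_, hur, hMu⟩
  obtain ⟨s', t', hst', hroot'⟩ := binquad_root (B1 r r) (2 * B1 r u) (B1 u u)
  have hB1 : B1 (s' • r + t' • u) (s' • r + t' • u) = 0 := by
    rw [bil_expand B1 h1]
    linear_combination hroot'
  refine ⟨s' • r + t' • u, ?_, hB1, ?_⟩
  · intro h0
    have ht' : t' = 0 := by
      by_contra ht'
      apply hur'
      have h3 : t' • u ∈ Submodule.span K {r} := by
        have : t' • u = -(s' • r) := by
          rw [eq_neg_iff_add_eq_zero, add_comm]
          exact h0
        rw [this]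
        exact Submodule.neg_mem _
          (Submodule.smul_mem _ _ (Submodule.mem_span_singleton_self r))
      exact (Submodule.smul_mem_iff _ ht').1 h3
    rw [ht', zero_smul, add_zero] at h0
    rcases smul_eq_zero.1 h0 with h' | h'
    · rcases hst' with h'' | h''
      · exact h'' h'
      · exact h'' ht'
    · exact hr h'
  · have hsum : l * B1 (s' • r + t' • u) (s' • r + t' • u) +
        m * B2 (s' • r + t' • u) (s' • r + t' • u) = 0 := by
      rw [bil_expand B1 h1, bil_expand B2 h2]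
      linear_combination s' ^ 2 * hrad r + 2 * s' * t' * hrad u + t' ^ 2 * hMu'
    rw [hB1, mul_zero, zero_add] at hsum
    exact (mul_eq_zero.1 hsum).resolve_left hm

/-- two conics in the projective plane over an algebraically closed field meet -/
theorem two_conics [FiniteDimensional K V] (hV : Module.finrank K V = 3)
    (B1 B2 : V →ₗ[K] V →ₗ[K] K) (h1 : ∀ x y, B1 x y = B1 y x) (h2 : ∀ x y, B2 x y = B2 y x) :
    ∃ v : V, v ≠ 0 ∧ B1 v v = 0 ∧ B2 v v = 0 := by
  by_cases hinj : Function.Injective B1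
  · haveI : Nontrivial V := Module.nontrivial_of_finrank_pos (R := K) (by rw [hV]; norm_num)
    have hdim : Module.finrank K V = Module.finrank K (Module.Dual K V) :=
      Subspace.dual_finrank_eq.symm
    obtain ⟨c, hc⟩ := Module.End.exists_eigenvalue
      (((LinearMap.linearEquivOfInjective (B1 : V →ₗ[K] Module.Dual K V) hinj hdim).symm :
        Module.Dual K V →ₗ[K] V) ∘ₗ (B2 : V →ₗ[K] Module.Dual K V))
    obtain ⟨r, hr⟩ := hc.exists_hasEigenvector
    have hr1 : (LinearMap.linearEquivOfInjective (B1 : V →ₗ[K] Module.Dual K V) hinj hdim).symm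
        (B2 r) = c • r := hr.apply_eq_smul
    have hr2 : B2 r = c • B1 r := by
      have h3 := congrArg
        (LinearMap.linearEquivOfInjective (B1 : V →ₗ[K] Module.Dual K V) hinj hdim) hr1
      rw [LinearEquiv.apply_symm_apply, map_smul, LinearMap.linearEquivOfInjective_apply] at h3
      exact h3
    refine two_conics_aux hV B1 B2 h1 h2 (-c) 1 one_ne_zero r hr.2 (fun y => ?_)
    rw [hr2, LinearMap.smul_apply, smul_eq_mul]
    ring
  · have hker : LinearMap.ker B1 ≠ ⊥ := fun h => hinj (LinearMap.ker_eq_bot.1 h)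
    obtain ⟨r, hrk, hr0⟩ := (Submodule.ne_bot_iff _).1 hker
    rw [LinearMap.mem_ker] at hrk
    obtain ⟨v, hv0, hv2, hv1⟩ := two_conics_aux hV B2 B1 h2 h1 0 1 one_ne_zero r hr0
      (fun y => by rw [hrk]; simp)
    exact ⟨v, hv0, hv1, hv2⟩

end conics

section plane

variable {K : Type u} [Field K] [CharZero K]

/-- the bilinear form `T f · · z` on a subspace -/
noncomputable def Bz {n : ℕ} (f : MvPolynomial (Fin n) K) (H : Submodule K (Fin n → K))
    (z : Fin n → K) : H →ₗ[K] H →ₗ[K] K :=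
  LinearMap.mk₂ K (fun v w => T f v.1 w.1 z)
    (fun v v' w => by
      show T f (v.1 + v'.1) w.1 z = _
      exact T_add_left f _ _ _ _)
    (fun c v w => by
      show T f (c • v.1) w.1 z = c * T f v.1 w.1 z
      exact T_smul_left f c _ _ _)
    (fun v w w' => by
      show T f v.1 (w.1 + w'.1) z = _
      exact T_add_mid f _ _ _ _)
    (fun c v w => by
      show T f v.1 (c • w.1) z = c * T f v.1 w.1 z
      exact T_smul_mid f c _ _ _)

theorem Bz_apply {n : ℕ} (f : MvPolynomial (Fin n) K) (H : Submodule K (Fin n → K))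
    (z : Fin n → K) (v w : H) : Bz f H z v w = T f v.1 w.1 z := rfl

theorem eval_plane {f : MvPolynomial (Fin 5) K} (hf : f.IsHomogeneous 3) {p a b : Fin 5 → K}
    (h1 : T f p p p = 0) (h2 : T f a a a = 0) (h3 : T f b b b = 0) (h4 : T f p p a = 0)
    (h5 : T f p p b = 0) (h6 : T f p a a = 0) (h7 : T f p b b = 0) (x y z : K) :
    eval (x • p + y • a + z • b) f =
      3 * y ^ 2 * z * T f a a b + 3 * y * z ^ 2 * T f a b b + 6 * x * y * z * T f p a b := by
  rw [expand3 hf, h1, h2, h3, h4, h5, h6, h7]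
  ring

variable [IsAlgClosed K]

/-- a smooth cubic threefold contains no plane -/
theorem no_plane5 {f : MvPolynomial (Fin 5) K} (hf : f.IsHomogeneous 3)
    (hsm : ∀ v : Fin 5 → K, v ≠ 0 → eval v f = 0 → ∃ i, eval v (pderiv i f) ≠ 0)
    (H : Submodule K (Fin 5 → K)) (hH3 : Module.finrank K ↥H = 3)
    (hH : ∀ x ∈ H, eval x f = 0) : False := by
  obtain ⟨z1, hz1⟩ : ∃ z, z ∉ H := by
    by_contra h
    push_neg at h
    have : H = ⊤ := eq_top_iff.mpr (fun x _ => h x)
    rw [this, finrank_top, Module.finrank_fin_fun] at hH3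
    omega
  have hfr4 : Module.finrank K ↥(H ⊔ Submodule.span K {z1}) = 4 := by
    rw [sup_span_finrank H hz1, hH3]
  obtain ⟨z2, hz2⟩ : ∃ z, z ∉ H ⊔ Submodule.span K {z1} := by
    by_contra h
    push_neg at h
    have : H ⊔ Submodule.span K {z1} = ⊤ := eq_top_iff.mpr (fun x _ => h x)
    rw [this, finrank_top, Module.finrank_fin_fun] at hfr4
    omega
  have htop : H ⊔ Submodule.span K {z1} ⊔ Submodule.span K {z2} = ⊤ := by
    apply Submodule.eq_top_of_finrank_eq
    rw [sup_span_finrank _ hz2, hfr4, Module.finrank_fin_fun]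
  obtain ⟨v, hv0, hv1, hv2⟩ := two_conics hH3 (Bz f H z1) (Bz f H z2)
    (fun x y => by rw [Bz_apply, Bz_apply]; exact T_symm12 f _ _ _)
    (fun x y => by rw [Bz_apply, Bz_apply]; exact T_symm12 f _ _ _)
  rw [Bz_apply] at hv1 hv2
  have hp0 : v.1 ≠ 0 := fun h => hv0 (Subtype.ext h)
  have hall : ∀ w : Fin 5 → K, T f v.1 v.1 w = 0 := by
    intro w
    have hw : w ∈ H ⊔ Submodule.span K {z1} ⊔ Submodule.span K {z2} := by
      rw [htop]; trivial
    obtain ⟨h1, hh1, y2, hy2, rfl⟩ := Submodule.mem_sup.1 hw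
    obtain ⟨h, hh, y1, hy1, rfl⟩ := Submodule.mem_sup.1 hh1
    obtain ⟨μ1, rfl⟩ := Submodule.mem_span_singleton.1 hy1
    obtain ⟨μ2, rfl⟩ := Submodule.mem_span_singleton.1 hy2
    rw [T_add_right, T_add_right, T_smul_right, T_smul_right, hv1, hv2, mul_zero, mul_zero,
      add_zero, add_zero]
    exact polar_zero hf H hH v.2 v.2 hh
  obtain ⟨i, hi⟩ := hsm v.1 hp0 (hH v.1 v.2)
  apply hi
  rw [eval_pderiv_eq_T hf, hall, mul_zero]

theorem main {f : MvPolynomial (Fin 5) K} (hf : f.IsHomogeneous 3)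
    (hsm : ∀ u : Fin 5 → K, u ≠ 0 → eval u f = 0 → ∃ i : Fin 5, eval u (pderiv i f) ≠ 0)
    (L₁ L₂ : Submodule K (Fin 5 → K)) (h₁ : Module.finrank K ↥L₁ = 2)
    (h₂ : Module.finrank K ↥L₂ = 2)
    (hf₁ : ∀ u ∈ L₁, eval u f = 0) (hf₂ : ∀ u ∈ L₂, eval u f = 0)
    (hne : L₁ ≠ L₂) (hmeet : L₁ ⊓ L₂ ≠ ⊥) :
    ∃ G : Set (Submodule K (Fin 5 → K)), G.Finite ∧
      (∀ g ∈ G, Module.finrank K ↥g = 1 ∧ g ≤ L₁) ∧
      ∀ L : Submodule K (Fin 5 → K), Module.finrank K ↥L = 2 → (∀ u ∈ L, eval u f = 0) →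
        L ⊓ L₁ ≠ ⊥ → L ⊓ L₂ ≠ ⊥ → ∃ g ∈ G, g ≤ L := by
  obtain ⟨p, hp, hp0⟩ := (Submodule.ne_bot_iff _).1 hmeet
  obtain ⟨hp1, hp2⟩ := Submodule.mem_inf.1 hp
  obtain ⟨a, haL, ha⟩ := exists_not_mem_span h₁ p
  obtain ⟨b, hbL, hb⟩ := exists_not_mem_span h₂ p
  have hbL1 : b ∉ L₁ := by
    intro hb1
    apply hne
    symm
    apply Submodule.eq_of_le_of_finrank_eq
    · intro x hx
      obtain ⟨c, d, rfl⟩ := mem_span_pair_of_finrank_two h₂ hp2 hbL hp0 hb hx
      exact L₁.add_mem (L₁.smul_mem _ hp1) (L₁.smul_mem _ hb1)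
    · rw [h₁, h₂]
  have t1 : T f p p p = 0 := polar_zero hf L₁ hf₁ hp1 hp1 hp1
  have t2 : T f a a a = 0 := polar_zero hf L₁ hf₁ haL haL haL
  have t3 : T f b b b = 0 := polar_zero hf L₂ hf₂ hbL hbL hbL
  have t4 : T f p p a = 0 := polar_zero hf L₁ hf₁ hp1 hp1 haL
  have t5 : T f p p b = 0 := polar_zero hf L₂ hf₂ hp2 hp2 hbL
  have t6 : T f p a a = 0 := polar_zero hf L₁ hf₁ hp1 haL haL
  have t7 : T f p b b = 0 := polar_zero hf L₂ hf₂ hp2 hbL hbL
  have hev := eval_plane hf t1 t2 t3 t4 t5 t6 t7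
  have hnp : ¬ (T f a a b = 0 ∧ T f a b b = 0 ∧ T f p a b = 0) := by
    rintro ⟨ha0, hb0, hc0⟩
    have hle : Submodule.span K {p} ⊔ Submodule.span K {a} ≤ L₁ := by
      apply sup_le
      · rw [Submodule.span_le]; simpa using hp1
      · rw [Submodule.span_le]; simpa using haL
    have hfr2 : Module.finrank K ↥(Submodule.span K {p} ⊔ Submodule.span K {a}) = 2 := by
      rw [sup_span_finrank _ ha, finrank_span_singleton hp0]
    have hb' : b ∉ Submodule.span K {p} ⊔ Submodule.span K {a} := fun h => hbL1 (hle h)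
    have hfr3 : Module.finrank K
        ↥(Submodule.span K {p} ⊔ Submodule.span K {a} ⊔ Submodule.span K {b}) = 3 := by
      rw [sup_span_finrank _ hb', hfr2]
    refine no_plane5 hf hsm _ hfr3 ?_
    intro x hx
    obtain ⟨h', hh', y, hy, rfl⟩ := Submodule.mem_sup.1 hx
    obtain ⟨u, hu, v, hv, rfl⟩ := Submodule.mem_sup.1 hh'
    obtain ⟨x1, rfl⟩ := Submodule.mem_span_singleton.1 hu
    obtain ⟨y1, rfl⟩ := Submodule.mem_span_singleton.1 hv
    obtain ⟨z1, rfl⟩ := Submodule.mem_span_singleton.1 hy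
    rw [hev, ha0, hb0, hc0]
    ring
  have hind : ∀ c d : K, c • p + d • a = 0 → c = 0 ∧ d = 0 := by
    intro c d h
    have hd : d = 0 := by
      by_contra hd
      apply ha
      have h3 : d • a ∈ Submodule.span K {p} := by
        have : d • a = -(c • p) := by
          rw [eq_neg_iff_add_eq_zero, add_comm]
          exact h
        rw [this]
        exact Submodule.neg_mem _
          (Submodule.smul_mem _ _ (Submodule.mem_span_singleton_self p))
      exact (Submodule.smul_mem_iff _ hd).1 h3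
    refine ⟨?_, hd⟩
    rw [hd, zero_smul, add_zero] at h
    exact (smul_eq_zero.1 h).resolve_right hp0
  refine ⟨{g | g = Submodule.span K {p} ∨
      (T f a a b • p + (-(2 * T f p a b)) • a ≠ 0 ∧
        g = Submodule.span K {T f a a b • p + (-(2 * T f p a b)) • a})}, ?_, ?_, ?_⟩
  · refine ((Set.finite_singleton
      (Submodule.span K {T f a a b • p + (-(2 * T f p a b)) • a})).insert
        (Submodule.span K {p})).subset ?_
    rintro g (rfl | ⟨-, rfl⟩)
    · exact Set.mem_insert _ _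
    · exact Set.mem_insert_of_mem _ (Set.mem_singleton _)
  · rintro g (rfl | ⟨hw, rfl⟩)
    · refine ⟨finrank_span_singleton hp0, ?_⟩
      rw [Submodule.span_le]; simpa using hp1
    · refine ⟨finrank_span_singleton hw, ?_⟩
      rw [Submodule.span_le, Set.singleton_subset_iff]
      exact L₁.add_mem (L₁.smul_mem _ hp1) (L₁.smul_mem _ haL)
  · intro L hL2 hLf hL1 hL2'
    by_cases hpL : p ∈ L
    · refine ⟨Submodule.span K {p}, Or.inl rfl, ?_⟩
      rw [Submodule.span_le]; simpa using hpL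
    · obtain ⟨q1, hq1, hq10⟩ := (Submodule.ne_bot_iff _).1 hL1
      obtain ⟨hq1L, hq1L1⟩ := Submodule.mem_inf.1 hq1
      obtain ⟨q2, hq2, hq20⟩ := (Submodule.ne_bot_iff _).1 hL2'
      obtain ⟨hq2L, hq2L2⟩ := Submodule.mem_inf.1 hq2
      obtain ⟨x1, y1, rfl⟩ := mem_span_pair_of_finrank_two h₁ hp1 haL hp0 ha hq1L1
      obtain ⟨x2, z2, rfl⟩ := mem_span_pair_of_finrank_two h₂ hp2 hbL hp0 hb hq2L2
      have hy1 : y1 ≠ 0 := by
        rintro rfl
        rw [zero_smul, add_zero] at hq1L hq10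
        have hx1 : x1 ≠ 0 := by
          rintro rfl
          exact hq10 (zero_smul _ _)
        exact hpL ((Submodule.smul_mem_iff _ hx1).1 hq1L)
      have hz2 : z2 ≠ 0 := by
        rintro rfl
        rw [zero_smul, add_zero] at hq2L hq20
        have hx2 : x2 ≠ 0 := by
          rintro rfl
          exact hq20 (zero_smul _ _)
        exact hpL ((Submodule.smul_mem_iff _ hx2).1 hq2L)
      have e1 := hLf _ (L.add_mem hq1L hq2L)
      have e2 := hLf _ (L.sub_mem hq1L hq2L)
      have r1 : x1 • p + y1 • a + (x2 • p + z2 • b) =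
          (x1 + x2) • p + y1 • a + z2 • b := by module
      have r2 : x1 • p + y1 • a - (x2 • p + z2 • b) =
          (x1 - x2) • p + y1 • a + (-z2) • b := by module
      rw [r1, hev] at e1
      rw [r2, hev] at e2
      have h6ne : (6 : K) * y1 * z2 ≠ 0 :=
        mul_ne_zero (mul_ne_zero (by norm_num) hy1) hz2
      have hi : y1 * T f a a b + 2 * x1 * T f p a b = 0 := by
        have h6 : (6 * y1 * z2) * (y1 * T f a a b + 2 * x1 * T f p a b) = 0 := by
          linear_combination e1 - e2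
        exact (mul_eq_zero.1 h6).resolve_left h6ne
      have hii : z2 * T f a b b + 2 * x2 * T f p a b = 0 := by
        have h6 : (6 * y1 * z2) * (z2 * T f a b b + 2 * x2 * T f p a b) = 0 := by
          linear_combination e1 + e2
        exact (mul_eq_zero.1 h6).resolve_left h6ne
      have hw : T f a a b • p + (-(2 * T f p a b)) • a ≠ 0 := by
        intro h0
        obtain ⟨hα, hγ'⟩ := hind _ _ h0
        have hγ : T f p a b = 0 := by
          have h2 : 2 * T f p a b = 0 := neg_eq_zero.1 hγ'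
          exact (mul_eq_zero.1 h2).resolve_left (by norm_num)
        apply hnp
        refine ⟨hα, ?_, hγ⟩
        rw [hγ, mul_zero, add_zero] at hii
        exact (mul_eq_zero.1 hii).resolve_left hz2
      refine ⟨_, Or.inr ⟨hw, rfl⟩, ?_⟩
      rw [Submodule.span_le, Set.singleton_subset_iff]
      have h8 : y1 • (T f a a b • p + (-(2 * T f p a b)) • a) =
          (-(2 * T f p a b)) • (x1 • p + y1 • a) := by
        have e : y1 * T f a a b = -(2 * T f p a b) * x1 := by linear_combination hi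
        calc y1 • (T f a a b • p + (-(2 * T f p a b)) • a)
            = (y1 * T f a a b) • p + (-(2 * T f p a b) * y1) • a := by module
          _ = (-(2 * T f p a b) * x1) • p + (-(2 * T f p a b) * y1) • a := by rw [e]
          _ = (-(2 * T f p a b)) • (x1 • p + y1 • a) := by module
      have h9 : y1 • (T f a a b • p + (-(2 * T f p a b)) • a) ∈ L := by
        rw [h8]
        exact L.smul_mem _ hq1L
      exact (Submodule.smul_mem_iff _ hy1).1 h9

end plane

end Groth.Agent.LD.CubicThree
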