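import Groth.Agent.Lib.Lead.MV.ExtZeroMV

/-!
# Glueing objects of `D(O_U)` and `D(O_V)` along an isomorphism on `U ∩ V` (S0945)

`F` is the cone of `j_{W!}(A|_W) ⟶ j_{U!} A ⊕ j_{V!} B`, `W = U ∩ V`.
-/

set_option autoImplicit false
universe u
open CategoryTheory CategoryTheory.Limits AlgebraicGeometry TopologicalSpace Opposite

attribute [local instance] HasDerivedCategory.standard

namespace Groth.Agent.LD.MV

section General

open Pretriangulated

/-- In a distinguished triangle `P ⟶ Y ⟶ Z ⟶` with `Y = A' ⊕ Q'` such that `P ⟶ Y ⟶ Q'` is an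
isomorphism, the composite `A' ⟶ Y ⟶ Z` is an isomorphism. -/
lemma isIso_of_biprod_dist {C : Type*} [Category C] [HasZeroObject C] [HasShift C ℤ]
    [Preadditive C] [∀ n : ℤ, (shiftFunctor C n).Additive] [Pretriangulated C]
    (T : Triangle C) (hT : T ∈ distTriang C) {A' Q' : C}
    (ι₁ : A' ⟶ T.obj₂) (p₁ : T.obj₂ ⟶ A') (ι₂ : Q' ⟶ T.obj₂) (p₂ : T.obj₂ ⟶ Q')
    (h11 : ι₁ ≫ p₁ = 𝟙 _) (h12 : ι₁ ≫ p₂ = 0) (htot : p₁ ≫ ι₁ + p₂ ≫ ι₂ = 𝟙 _)
    (hi : IsIso (T.mor₁ ≫ p₂)) : IsIso (ι₁ ≫ T.mor₂) := by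
  haveI := hi
  have hr : T.mor₁ ≫ (p₂ ≫ inv (T.mor₁ ≫ p₂)) = 𝟙 _ := by
    rw [← Category.assoc, IsIso.hom_inv_id]
  haveI : Mono T.mor₁ := mono_of_mono_fac hr
  have h3 : T.mor₃ = 0 := T.mor₃_eq_zero_of_mono₁ hT inferInstance
  haveI : Epi T.mor₂ := T.epi₂ hT h3
  have hπ : T.mor₁ ≫ (p₁ - p₂ ≫ inv (T.mor₁ ≫ p₂) ≫ T.mor₁ ≫ p₁) = 0 := by
    rw [Preadditive.comp_sub, ← Category.assoc T.mor₁ p₂, IsIso.hom_inv_id_assoc, sub_self]
  obtain ⟨g, hg⟩ := T.yoneda_exact₂ hT _ hπ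
  have hz : T.mor₁ ≫ T.mor₂ = 0 := comp_distTriang_mor_zero₁₂ _ hT
  have e1 : T.mor₁ ≫ p₁ ≫ ι₁ ≫ T.mor₂ = - (T.mor₁ ≫ p₂ ≫ ι₂ ≫ T.mor₂) := by
    have this : T.mor₁ ≫ (p₁ ≫ ι₁ + p₂ ≫ ι₂) ≫ T.mor₂ = 0 := by
      rw [htot, Category.id_comp, hz]
    rw [Preadditive.add_comp, Preadditive.comp_add] at this
    simp only [Category.assoc] at this
    rw [eq_neg_iff_add_eq_zero]
    exact this
  have e2 : p₁ ≫ ι₁ ≫ T.mor₂ = T.mor₂ - p₂ ≫ ι₂ ≫ T.mor₂ := by
    have this : (p₁ ≫ ι₁ + p₂ ≫ ι₂) ≫ T.mor₂ = T.mor₂ := by rw [htot, Category.id_comp]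
    rw [Preadditive.add_comp] at this
    simp only [Category.assoc] at this
    rw [eq_sub_iff_add_eq]
    exact this
  refine ⟨⟨g, ?_, ?_⟩⟩
  · rw [Category.assoc, ← hg, Preadditive.comp_sub, h11, ← Category.assoc ι₁ p₂, h12, zero_comp,
      sub_zero]
  · rw [← cancel_epi T.mor₂, ← Category.assoc, ← hg, Category.comp_id, Preadditive.sub_comp, e2]
    simp only [Category.assoc]
    rw [e1]
    simp only [Preadditive.comp_neg]
    rw [sub_neg_eq_add, ← Category.assoc T.mor₁ p₂, IsIso.inv_hom_id_assoc, sub_add_cancel]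

variable {C D : Type*} [Category C] [Category D] [HasZeroObject C] [HasZeroObject D]
  [HasShift C ℤ] [HasShift D ℤ] [Preadditive C] [Preadditive D]
  [∀ n : ℤ, (shiftFunctor C n).Additive] [∀ n : ℤ, (shiftFunctor D n).Additive]
  [Pretriangulated C] [Pretriangulated D]

lemma isIso_map_inl_comp (G : C ⥤ D) [G.CommShift ℤ] [G.IsTriangulated] {P S₁ S₂ F : C}
    [HasBinaryBiproduct S₁ S₂] (φ : P ⟶ S₁ ⊞ S₂) (ψ : S₁ ⊞ S₂ ⟶ F) (δ : F ⟶ P⟦(1 : ℤ)⟧)
    (hT : Triangle.mk φ ψ δ ∈ distTriang C) (h : IsIso (G.map (φ ≫ biprod.snd))) :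
    IsIso (G.map (biprod.inl : S₁ ⟶ S₁ ⊞ S₂) ≫ G.map ψ) := by
  have hT' := G.map_distinguished _ hT
  have h11 : G.map (biprod.inl : S₁ ⟶ S₁ ⊞ S₂) ≫ G.map biprod.fst = 𝟙 _ := by
    rw [← G.map_comp, biprod.inl_fst, G.map_id]
  have h12 : G.map (biprod.inl : S₁ ⟶ S₁ ⊞ S₂) ≫ G.map biprod.snd = 0 := by
    rw [← G.map_comp, biprod.inl_snd, G.map_zero]
  have htot : G.map (biprod.fst : S₁ ⊞ S₂ ⟶ S₁) ≫ G.map biprod.inl +
      G.map (biprod.snd : S₁ ⊞ S₂ ⟶ S₂) ≫ G.map biprod.inr = 𝟙 _ := by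
    rw [← G.map_comp, ← G.map_comp, ← G.map_add, biprod.total, G.map_id]
  have hi : IsIso (G.map φ ≫ G.map (biprod.snd : S₁ ⊞ S₂ ⟶ S₂)) := by
    rw [← G.map_comp]; exact h
  exact isIso_of_biprod_dist (G.mapTriangle.obj (Triangle.mk φ ψ δ)) hT'
    (G.map biprod.inl) (G.map biprod.fst) (G.map biprod.inr) (G.map biprod.snd) h11 h12 htot hi

lemma isIso_map_inr_comp (G : C ⥤ D) [G.CommShift ℤ] [G.IsTriangulated] {P S₁ S₂ F : C}
    [HasBinaryBiproduct S₁ S₂] (φ : P ⟶ S₁ ⊞ S₂) (ψ : S₁ ⊞ S₂ ⟶ F) (δ : F ⟶ P⟦(1 : ℤ)⟧)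
    (hT : Triangle.mk φ ψ δ ∈ distTriang C) (h : IsIso (G.map (φ ≫ biprod.fst))) :
    IsIso (G.map (biprod.inr : S₂ ⟶ S₁ ⊞ S₂) ≫ G.map ψ) := by
  have hT' := G.map_distinguished _ hT
  have h11 : G.map (biprod.inr : S₂ ⟶ S₁ ⊞ S₂) ≫ G.map biprod.snd = 𝟙 _ := by
    rw [← G.map_comp, biprod.inr_snd, G.map_id]
  have h12 : G.map (biprod.inr : S₂ ⟶ S₁ ⊞ S₂) ≫ G.map biprod.fst = 0 := by
    rw [← G.map_comp, biprod.inr_fst, G.map_zero]
  have htot : G.map (biprod.snd : S₁ ⊞ S₂ ⟶ S₂) ≫ G.map biprod.inr +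
      G.map (biprod.fst : S₁ ⊞ S₂ ⟶ S₁) ≫ G.map biprod.inl = 𝟙 _ := by
    rw [← G.map_comp, ← G.map_comp, ← G.map_add, add_comm, biprod.total, G.map_id]
  have hi : IsIso (G.map φ ≫ G.map (biprod.fst : S₁ ⊞ S₂ ⟶ S₁)) := by
    rw [← G.map_comp]; exact h
  exact isIso_of_biprod_dist (G.mapTriangle.obj (Triangle.mk φ ψ δ)) hT'
    (G.map biprod.inr) (G.map biprod.snd) (G.map biprod.inl) (G.map biprod.fst) h11 h12 htot hi

end General

section Q

variable {Y Z : Scheme.{u}} (G : Y.Modules ⥤ Z.Modules) [G.Additive] [PreservesFiniteLimits G]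
  [PreservesFiniteColimits G]

lemma isIso_map_Q {K L : CochainComplex Y.Modules ℤ} (g : K ⟶ L)
    (hg : IsIso ((G.mapHomologicalComplex (ComplexShape.up ℤ)).map g)) :
    IsIso (G.mapDerivedCategory.map (DerivedCategory.Q.map g)) := by
  haveI := hg
  have h := G.mapDerivedCategoryFactors_hom_naturality g
  have e : G.mapDerivedCategory.map (DerivedCategory.Q.map g) =
      G.mapDerivedCategoryFactors.hom.app K ≫
        DerivedCategory.Q.map ((G.mapHomologicalComplex (ComplexShape.up ℤ)).map g) ≫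
          G.mapDerivedCategoryFactors.inv.app L := by
    rw [← Category.assoc, ← h, Category.assoc, Iso.hom_inv_id_app]
    exact (Category.comp_id _).symm
  rw [e]
  infer_instance

end Q

variable {X : Scheme.{u}}

/-- restriction from `U` to a smaller open `U'`. -/
noncomputable abbrev Rle {U' U : X.Opens} (h : U' ≤ U) :
    (U : Scheme.{u}).Modules ⥤ (U' : Scheme.{u}).Modules :=
  Scheme.Modules.restrictFunctor (X.homOfLE h)

/-- restriction in two steps. -/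
noncomputable def resComp {U' U : X.Opens} (h : U' ≤ U) : Rf U' ≅ Rf U ⋙ Rle h :=
  Scheme.Modules.restrictFunctorCongr (X.homOfLE_ι h).symm ≪≫
    Scheme.Modules.restrictFunctorComp (X.homOfLE h) U.ι

/-- `j_{U'!}(A|_{U'}) ⟶ j_{U!} A` for `U' ≤ U` and a module `A` on `U`. -/
noncomputable def tauApp {U' U : X.Opens} (h : U' ≤ U) (A : (U : Scheme.{u}).Modules) :
    (Lf U').obj ((Rle h).obj A) ⟶ (Lf U).obj A :=
  ((adjW U').homEquiv ((Rle h).obj A) ((Lf U).obj A)).symm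
    ((Rle h).map ((adjW U).unit.app A) ≫ (resComp h).inv.app ((Lf U).obj A))

lemma tauApp_eq {U' U : X.Opens} (h : U' ≤ U) (A : (U : Scheme.{u}).Modules) :
    tauApp h A =
      (Lf U').map ((Rle h).map ((adjW U).unit.app A) ≫ (resComp h).inv.app ((Lf U).obj A)) ≫
        (adjW U').counit.app ((Lf U).obj A) := by
  unfold tauApp
  rw [Adjunction.homEquiv_counit]

lemma tauApp_naturality {U' U : X.Opens} (h : U' ≤ U) {A A' : (U : Scheme.{u}).Modules}
    (f : A ⟶ A') :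
    (Lf U').map ((Rle h).map f) ≫ tauApp h A' = tauApp h A ≫ (Lf U).map f := by
  unfold tauApp
  rw [← Adjunction.homEquiv_naturality_left_symm, ← Adjunction.homEquiv_naturality_right_symm]
  congr 1
  have h1 : f ≫ (adjW U).unit.app A' = (adjW U).unit.app A ≫ (Rf U).map ((Lf U).map f) :=
    (adjW U).unit.naturality f
  have h2 : (Rf U ⋙ Rle h).map ((Lf U).map f) ≫ (resComp h).inv.app ((Lf U).obj A') =
      (resComp h).inv.app ((Lf U).obj A) ≫ (Rf U').map ((Lf U).map f) :=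
    (resComp h).inv.naturality ((Lf U).map f)
  rw [Category.assoc, ← h2, ← Functor.map_comp_assoc, h1, Functor.map_comp_assoc]
  rfl

lemma isIso_zeta {U' U : X.Opens} (h : U' ≤ U) (A : (U : Scheme.{u}).Modules) :
    IsIso ((Rle h).map ((adjW U).unit.app A) ≫ (resComp h).inv.app ((Lf U).obj A)) := by
  haveI := ExtZeroGen.isIso_unit U.ι
  infer_instance

/-- for `N` supported in `U`, the counit `j_{W!}(N|_W) ⟶ N` is an isomorphism over `V` as soon as
`U ∩ V ⊆ W`. -/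
lemma isIso_restrict_counit (W U V : X.Opens) (hW : ∀ y : X, y ∈ V → y ∈ U → y ∈ W)
    (N : X.Modules) (hN : SuppIn U N) : IsIso ((Rf V).map ((adjW W).counit.app N)) := by
  haveI := ExtZeroGen.mono_counit W.ι N
  haveI : (Rf V).PreservesMonomorphisms := Functor.preservesMonomorphisms_of_adjunction (adjW V)
  have hC : IsZero ((Rf V).obj (cokernel ((adjW W).counit.app N))) := by
    refine QC.isZero_restrict_of_stalks _ V (fun y hyV => ?_)
    have hz : IsZero ((DerSch.stalkFunctor X y).obj (cokernel ((adjW W).counit.app N))) := by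
      by_cases hyU : y ∈ U
      · exact isZero_stalk_of_counit_comp_epi W (cokernel.π ((adjW W).counit.app N))
          (cokernel.condition _) y (hW y hyV hyU)
      · haveI : (DerSch.stalkFunctor X y).PreservesEpimorphisms :=
          Functor.preservesEpimorphisms_of_adjunction (H4.SPt4.stalkSkyAdj y)
        exact IsZero.of_epi ((DerSch.stalkFunctor X y).map
          (cokernel.π ((adjW W).counit.app N))) (hN y hyU)
    exact ModuleCat.isZero_iff_subsingleton.mp hz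
  haveI : Mono ((Rf V).map ((adjW W).counit.app N)) := inferInstance
  haveI : Epi ((Rf V).map ((adjW W).counit.app N)) :=
    Preadditive.epi_of_isZero_cokernel _
      (hC.of_iso (PreservesCokernel.iso (Rf V) ((adjW W).counit.app N)).symm)
  exact isIso_of_mono_of_epi _

lemma isIso_restrict_tauApp {W U : X.Opens} (h : W ≤ U) (V : X.Opens)
    (hW : ∀ y : X, y ∈ V → y ∈ U → y ∈ W) (A : (U : Scheme.{u}).Modules) :
    IsIso ((Rf V).map (tauApp h A)) := by
  rw [tauApp_eq, Functor.map_comp]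
  haveI := isIso_zeta h A
  haveI := isIso_restrict_counit W U V hW ((Lf U).obj A)
    (fun y hy => isZero_stalk_extZero U A y hy)
  infer_instance

/-! ### Complexes -/

/-- the chain map `j_{U'!}(K|_{U'}) ⟶ j_{U!} K`. -/
noncomputable def tauCx {U' U : X.Opens} (h : U' ≤ U)
    (K : CochainComplex (U : Scheme.{u}).Modules ℤ) :
    ((Lf U').mapHomologicalComplex (ComplexShape.up ℤ)).obj
        (((Rle h).mapHomologicalComplex (ComplexShape.up ℤ)).obj K) ⟶
      ((Lf U).mapHomologicalComplex (ComplexShape.up ℤ)).obj K where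
  f i := tauApp h (K.X i)
  comm' i j _ := (tauApp_naturality h (K.d i j)).symm

lemma isIso_restrict_tauCx {W U : X.Opens} (h : W ≤ U) (V : X.Opens)
    (hW : ∀ y : X, y ∈ V → y ∈ U → y ∈ W) (K : CochainComplex (U : Scheme.{u}).Modules ℤ) :
    IsIso (((Rf V).mapHomologicalComplex (ComplexShape.up ℤ)).map (tauCx h K)) := by
  haveI : ∀ i, IsIso ((((Rf V).mapHomologicalComplex (ComplexShape.up ℤ)).map (tauCx h K)).f i) :=
    fun i => isIso_restrict_tauApp h V hW (K.X i)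
  exact HomologicalComplex.Hom.isIso_of_components _

lemma isIso_unit_app (U : X.Opens) (A : (U : Scheme.{u}).Modules) :
    IsIso ((adjW U).unit.app A) := by
  haveI := ExtZeroGen.isIso_unit U.ι
  infer_instance

/-- `K ≅ (j_{U!} K)|_U` for a complex. -/
noncomputable def unitCxIso (U : X.Opens) (K : CochainComplex (U : Scheme.{u}).Modules ℤ) :
    K ≅ ((Rf U).mapHomologicalComplex (ComplexShape.up ℤ)).obj
      (((Lf U).mapHomologicalComplex (ComplexShape.up ℤ)).obj K) :=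
  HomologicalComplex.Hom.isoOfComponents
    (fun i => @asIso _ _ _ _ ((adjW U).unit.app (K.X i)) (isIso_unit_app U (K.X i)))
    (fun i j _ => ((adjW U).unit.naturality (K.d i j)).symm)

/-! ### Glueing -/

theorem glue_of_complexes (U V : X.Opens)
    (KA : CochainComplex (U : Scheme.{u}).Modules ℤ)
    (KB : CochainComplex (V : Scheme.{u}).Modules ℤ)
    (c : (DCoh.restrictD (X.homOfLE (inf_le_left : U ⊓ V ≤ U))).obj (DerivedCategory.Q.obj KA) ≅
      (DCoh.restrictD (X.homOfLE (inf_le_right : U ⊓ V ≤ V))).obj (DerivedCategory.Q.obj KB)) :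
    ∃ F : DCoh.D X, Nonempty ((DCoh.restrictD U.ι).obj F ≅ DerivedCategory.Q.obj KA) ∧
      Nonempty ((DCoh.restrictD V.ι).obj F ≅ DerivedCategory.Q.obj KB) := by
  haveI := ExtZeroGen.preservesFiniteLimits_extZero U.ι
  haveI := ExtZeroGen.preservesFiniteLimits_extZero V.ι
  haveI := ExtZeroGen.preservesFiniteLimits_extZero (U ⊓ V).ι
  have θ : DerivedCategory.Q.obj (((Lf (U ⊓ V)).mapHomologicalComplex (ComplexShape.up ℤ)).obj
        (((Rle (inf_le_left : U ⊓ V ≤ U)).mapHomologicalComplex (ComplexShape.up ℤ)).obj KA)) ≅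
      DerivedCategory.Q.obj (((Lf (U ⊓ V)).mapHomologicalComplex (ComplexShape.up ℤ)).obj
        (((Rle (inf_le_right : U ⊓ V ≤ V)).mapHomologicalComplex (ComplexShape.up ℤ)).obj KB)) :=
    ((Functor.mapDerivedCategoryFactors (Lf (U ⊓ V))).app
        (((Rle (inf_le_left : U ⊓ V ≤ U)).mapHomologicalComplex (ComplexShape.up ℤ)).obj KA)).symm ≪≫
      (CxOX.extZeroD (U ⊓ V).ι).mapIso
        (((Functor.mapDerivedCategoryFactors (Rle (inf_le_left : U ⊓ V ≤ U))).app KA).symm ≪≫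
          c ≪≫ (Functor.mapDerivedCategoryFactors (Rle (inf_le_right : U ⊓ V ≤ V))).app KB) ≪≫
      (Functor.mapDerivedCategoryFactors (Lf (U ⊓ V))).app
        (((Rle (inf_le_right : U ⊓ V ≤ V)).mapHomologicalComplex (ComplexShape.up ℤ)).obj KB)
  obtain ⟨F, ψ, δ, hT⟩ := Pretriangulated.distinguished_cocone_triangle
    (biprod.lift (DerivedCategory.Q.map (tauCx (inf_le_left : U ⊓ V ≤ U) KA))
      (θ.hom ≫ DerivedCategory.Q.map (tauCx (inf_le_right : U ⊓ V ≤ V) KB)))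
  refine ⟨F, ?_, ?_⟩
  · have hiso : IsIso ((DCoh.restrictD U.ι).map
        (biprod.lift (DerivedCategory.Q.map (tauCx (inf_le_left : U ⊓ V ≤ U) KA))
          (θ.hom ≫ DerivedCategory.Q.map (tauCx (inf_le_right : U ⊓ V ≤ V) KB)) ≫
            biprod.snd)) := by
      rw [biprod.lift_snd, Functor.map_comp]
      haveI := isIso_map_Q (Rf U) (tauCx (inf_le_right : U ⊓ V ≤ V) KB)
        (isIso_restrict_tauCx (inf_le_right : U ⊓ V ≤ V) U (fun y hyU hyV => ⟨hyU, hyV⟩) KB)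
      infer_instance
    haveI := isIso_map_inl_comp (DCoh.restrictD U.ι) _ ψ δ hT hiso
    exact ⟨(asIso ((DCoh.restrictD U.ι).map biprod.inl ≫ (DCoh.restrictD U.ι).map ψ)).symm ≪≫
      (Functor.mapDerivedCategoryFactors (Rf U)).app _ ≪≫
      DerivedCategory.Q.mapIso (unitCxIso U KA).symm⟩
  · have hiso : IsIso ((DCoh.restrictD V.ι).map
        (biprod.lift (DerivedCategory.Q.map (tauCx (inf_le_left : U ⊓ V ≤ U) KA))
          (θ.hom ≫ DerivedCategory.Q.map (tauCx (inf_le_right : U ⊓ V ≤ V) KB)) ≫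
            biprod.fst)) := by
      rw [biprod.lift_fst]
      exact isIso_map_Q (Rf V) (tauCx (inf_le_left : U ⊓ V ≤ U) KA)
        (isIso_restrict_tauCx (inf_le_left : U ⊓ V ≤ U) V (fun y hyV hyU => ⟨hyU, hyV⟩) KA)
    haveI := isIso_map_inr_comp (DCoh.restrictD V.ι) _ ψ δ hT hiso
    exact ⟨(asIso ((DCoh.restrictD V.ι).map biprod.inr ≫ (DCoh.restrictD V.ι).map ψ)).symm ≪≫
      (Functor.mapDerivedCategoryFactors (Rf V)).app _ ≪≫
      DerivedCategory.Q.mapIso (unitCxIso V KB).symm⟩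

/-- **S0945**: glueing objects of the derived categories of two opens. -/
theorem glue (U V : X.Opens) (A : DCoh.D (U : Scheme.{u})) (B : DCoh.D (V : Scheme.{u}))
    (c : (DCoh.restrictD (X.homOfLE (inf_le_left : U ⊓ V ≤ U))).obj A ≅
      (DCoh.restrictD (X.homOfLE (inf_le_right : U ⊓ V ≤ V))).obj B) :
    ∃ F : DCoh.D X, Nonempty ((DCoh.restrictD U.ι).obj F ≅ A) ∧
      Nonempty ((DCoh.restrictD V.ι).obj F ≅ B) := by
  have eA : DerivedCategory.Q.obj (DerivedCategory.Q.objPreimage A) ≅ A :=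
    DerivedCategory.Q.objObjPreimageIso A
  have eB : DerivedCategory.Q.obj (DerivedCategory.Q.objPreimage B) ≅ B :=
    DerivedCategory.Q.objObjPreimageIso B
  obtain ⟨F, ⟨e1⟩, ⟨e2⟩⟩ := glue_of_complexes U V _ _
    ((DCoh.restrictD (X.homOfLE (inf_le_left : U ⊓ V ≤ U))).mapIso eA ≪≫ c ≪≫
      ((DCoh.restrictD (X.homOfLE (inf_le_right : U ⊓ V ≤ V))).mapIso eB).symm)
  exact ⟨F, ⟨e1 ≪≫ eA⟩, ⟨e2 ≪≫ eB⟩⟩

end Groth.Agent.LD.MV
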