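import Mathlib
import Groth.Prelude.Def_DRing2

/-!
# Perfect modules and finite projective resolutions (S6955)
-/

set_option autoImplicit false
universe u
open CategoryTheory CategoryTheory.Limits

namespace Groth.Agent.LD.PerfRes

attribute [local instance] HasDerivedCategory.standard

section alg

variable {R : Type u} [CommRing R]

/-- in a bounded-above exact (in positive degrees) complex of finite projective modules all the
kernels are finite projective -/
theorem ker_fg_proj (X : ℕ → Type u) [∀ i, AddCommGroup (X i)] [∀ i, Module R (X i)]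
    (d : ∀ i, X i →ₗ[R] X (i + 1))
    (hdd : ∀ i (x : X i), d (i + 1) (d i x) = 0)
    (hfp : ∀ i, Module.Finite R (X i) ∧ Module.Projective R (X i))
    (hex : ∀ i (x : X (i + 1)), d (i + 1) x = 0 → ∃ y, d i y = x)
    (N : ℕ) (hN : ∀ i, N < i → Subsingleton (X i)) :
    ∀ i, Module.Finite R (LinearMap.ker (d i)) ∧ Module.Projective R (LinearMap.ker (d i)) := by
  have key : ∀ k i, N < i + k →
      (Module.Finite R (LinearMap.ker (d i)) ∧ Module.Projective R (LinearMap.ker (d i))) := by
    intro k
    induction k with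
    | zero =>
      intro i hi
      haveI : Subsingleton (X i) := hN i (by omega)
      haveI : Subsingleton (LinearMap.ker (d i)) :=
        ⟨fun a b => Subtype.ext (Subsingleton.elim _ _)⟩
      exact ⟨inferInstance, inferInstance⟩
    | succ k ih =>
      intro i hi
      obtain ⟨hf1, hp1⟩ := ih (i + 1) (by omega)
      obtain ⟨hfi, hpi⟩ := hfp i
      have hgmem : ∀ x : X i, d i x ∈ LinearMap.ker (d (i + 1)) := fun x =>
        LinearMap.mem_ker.2 (hdd i x)
      have hg : Function.Surjective ((d i).codRestrict (LinearMap.ker (d (i + 1))) hgmem) := by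
        rintro ⟨x, hx⟩
        obtain ⟨y, hy⟩ := hex i x (LinearMap.mem_ker.1 hx)
        exact ⟨y, Subtype.ext hy⟩
      obtain ⟨s, hs⟩ := Module.projective_lifting_property
        ((d i).codRestrict (LinearMap.ker (d (i + 1))) hgmem) LinearMap.id hg
      have hgs : ∀ z : LinearMap.ker (d (i + 1)), d i (s z) = z.1 := by
        intro z
        have := LinearMap.congr_fun hs z
        exact congrArg Subtype.val this
      have hrmem : ∀ x : X i, ((LinearMap.id : X i →ₗ[R] X i) - s ∘ₗ
          ((d i).codRestrict (LinearMap.ker (d (i + 1))) hgmem)) x ∈ LinearMap.ker (d i) := by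
        intro x
        rw [LinearMap.mem_ker, LinearMap.sub_apply, LinearMap.id_apply, LinearMap.comp_apply,
          map_sub, hgs]
        exact sub_self _
      have hr : ∀ z : LinearMap.ker (d i), ((LinearMap.id : X i →ₗ[R] X i) - s ∘ₗ
          ((d i).codRestrict (LinearMap.ker (d (i + 1))) hgmem)).codRestrict
            (LinearMap.ker (d i)) hrmem z.1 = z := by
        intro z
        apply Subtype.ext
        show ((LinearMap.id : X i →ₗ[R] X i) - s ∘ₗ
          ((d i).codRestrict (LinearMap.ker (d (i + 1))) hgmem)) z.1 = z.1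
        have hz : (d i).codRestrict (LinearMap.ker (d (i + 1))) hgmem z.1 = 0 :=
          Subtype.ext (LinearMap.mem_ker.1 z.2)
        rw [LinearMap.sub_apply, LinearMap.id_apply, LinearMap.comp_apply, hz, map_zero, sub_zero]
      refine ⟨Module.Finite.of_surjective _ (fun z => ⟨z.1, hr z⟩),
        Module.Projective.of_split (LinearMap.ker (d i)).subtype
          (((LinearMap.id : X i →ₗ[R] X i) - s ∘ₗ
          ((d i).codRestrict (LinearMap.ker (d (i + 1))) hgmem)).codRestrict
            (LinearMap.ker (d i)) hrmem) (LinearMap.ext fun z => hr z)⟩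
  intro i
  exact key (N + 1) i (by omega)

variable {M : Type u} [AddCommGroup M] [Module R M]

/-- a chain complex of projective modules with an exact augmentation is a projective resolution -/
theorem exists_projRes_of_exact (F : ChainComplex (ModuleCat.{u} R) ℕ)
    (hproj : ∀ i, Module.Projective R (F.X i))
    (ε : F.X 0 →ₗ[R] M) (hε : Function.Surjective ε)
    (h0 : ∀ x : F.X 1, ε ((F.d 1 0).hom x) = 0)
    (hk0 : ∀ x : F.X 0, ε x = 0 → ∃ y : F.X 1, (F.d 1 0).hom y = x)
    (hki : ∀ (i : ℕ) (x : F.X (i + 1)), (F.d (i + 1) i).hom x = 0 →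
      ∃ y : F.X (i + 1 + 1), (F.d (i + 1 + 1) (i + 1)).hom y = x) :
    ∃ P : ProjectiveResolution (ModuleCat.of R M), P.complex = F := by
  let augHom : F.X 0 ⟶ ModuleCat.of R M := ModuleCat.ofHom ε
  have hcomp : F.d 1 0 ≫ augHom = 0 := by
    apply ModuleCat.hom_ext
    apply LinearMap.ext
    intro x
    exact h0 x
  let π : F ⟶ (ChainComplex.single₀ (ModuleCat.{u} R)).obj (ModuleCat.of R M) :=
    (ChainComplex.toSingle₀Equiv _ _).symm ⟨augHom, hcomp⟩
  have hπ0 : π.f 0 = augHom := by simp [π]
  have hex : (ShortComplex.mk (F.d 1 0) augHom hcomp).Exact := by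
    rw [ShortComplex.moduleCat_exact_iff]
    intro x hx
    exact hk0 x hx
  haveI : Epi augHom := (ModuleCat.epi_iff_surjective _).2 hε
  have hexact : ∀ i, F.ExactAt (i + 1) := by
    intro i
    rw [HomologicalComplex.exactAt_iff' _ (i + 1 + 1) (i + 1) i (by simp) (by simp),
      ShortComplex.moduleCat_exact_iff]
    intro x hx
    exact hki i x hx
  refine ⟨{
    complex := F
    projective := fun i => (IsProjective.iff_projective (R := R) (F.X i)).1 (hproj i)
    π := π
    quasiIso := ⟨fun i => by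
      cases i with
      | zero =>
        rw [ChainComplex.quasiIsoAt₀_iff, ShortComplex.quasiIso_iff_of_zeros']
        · refine (ShortComplex.exact_and_epi_g_iff_of_iso ?_).2
            ⟨hex, inferInstanceAs (Epi augHom)⟩
          exact ShortComplex.isoMk (Iso.refl _) (Iso.refl _) (Iso.refl _)
            ((Category.id_comp _).trans (Category.comp_id _).symm)
            (by
              have h : ((HomologicalComplex.shortComplexFunctor' (ModuleCat.{u} R)
                  (ComplexShape.down ℕ) 1 0 0).map π).τ₂ = augHom := hπ0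
              dsimp only [Iso.refl_hom]
              erw [Category.id_comp])
        · exact F.shape _ _ (by simp)
        · rfl
        · rfl
      | succ i =>
        rw [quasiIsoAt_iff_exactAt']
        · exact hexact i
        · apply ChainComplex.exactAt_succ_single_obj⟩ }, rfl⟩

end alg

section cx

variable {R : Type u} [CommRing R] (E : CochainComplex (ModuleCat.{u} R) ℤ)

theorem d_d_apply (i j k : ℤ) (x : E.X i) : (E.d j k).hom ((E.d i j).hom x) = 0 := by
  rw [← LinearMap.comp_apply, ← ModuleCat.hom_comp, E.d_comp_d, ModuleCat.hom_zero,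
    LinearMap.zero_apply]

/-- the terms of the resolution -/
noncomputable def FX : ℕ → ModuleCat.{u} R
  | 0 => ModuleCat.of R (LinearMap.ker (E.d 0 1).hom)
  | (n + 1) => E.X (-(n : ℤ) - 1)

/-- the differentials of the resolution -/
noncomputable def Fd : ∀ n : ℕ, FX E (n + 1) ⟶ FX E n
  | 0 => ModuleCat.ofHom ((E.d (-((0 : ℕ) : ℤ) - 1) 0).hom.codRestrict
      (LinearMap.ker (E.d 0 1).hom)
      (fun x => LinearMap.mem_ker.2 (d_d_apply E _ _ _ x)))
  | (n + 1) => E.d (-((n + 1 : ℕ) : ℤ) - 1) (-(n : ℤ) - 1)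

theorem Fd_sq : ∀ n : ℕ, Fd E (n + 1) ≫ Fd E n = 0
  | 0 => by
    apply ModuleCat.hom_ext
    apply LinearMap.ext
    intro x
    apply Subtype.ext
    exact d_d_apply E (-((0 + 1 : ℕ) : ℤ) - 1) (-((0 : ℕ) : ℤ) - 1) 0 x
  | (n + 1) => E.d_comp_d _ _ _

/-- the resolution as a chain complex -/
noncomputable def F : ChainComplex (ModuleCat.{u} R) ℕ :=
  ChainComplex.of (FX E) (Fd E) (Fd_sq E)

theorem F_d (n : ℕ) : (F E).d (n + 1) n = Fd E n := ChainComplex.of_d _ _ n

/-- the boundary map into the cycles -/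
noncomputable def tc : E.X (-1) →ₗ[R] LinearMap.ker (E.d 0 1).hom :=
  (E.d (-1) 0).hom.codRestrict _ (fun x => LinearMap.mem_ker.2 (d_d_apply E _ _ _ x))

theorem transport1 : ∀ (i : ℤ) (_ : i = -1) (y : E.X i),
    ∃ y' : E.X (-1), (E.d (-1) 0).hom y' = (E.d i 0).hom y := by
  rintro i rfl y
  exact ⟨y, rfl⟩

theorem transport2 : ∀ (i : ℤ) (_ : i = -1) (y' : E.X (-1)),
    ∃ y : E.X i, (E.d i 0).hom y = (E.d (-1) 0).hom y' := by
  rintro i rfl y'
  exact ⟨y', rfl⟩

variable {M : Type u} [AddCommGroup M] [Module R M]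
  (e : DerivedCategory.Q.obj E ≅
    (DerivedCategory.singleFunctor (ModuleCat.{u} R) 0).obj (ModuleCat.of R M))

include e in
theorem exact_of_iso : ∀ (i j k : ℤ), i + 1 = j → j + 1 = k → j ≠ 0 → ∀ x : E.X j,
    (E.d j k).hom x = 0 → ∃ y : E.X i, (E.d i j).hom y = x := by
  intro i j k hij hjk hj x hx
  have hz : IsZero (E.homology j) := by
    have i1 : E.homology j ≅ (DerivedCategory.homologyFunctor (ModuleCat.{u} R) j).obj
        (DerivedCategory.Q.obj E) :=
      ((DerivedCategory.homologyFunctorFactors (ModuleCat.{u} R) j).app E).symm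
    have i2 := (DerivedCategory.homologyFunctor (ModuleCat.{u} R) j).mapIso e
    refine IsZero.of_iso ?_ (i1 ≪≫ i2)
    rcases lt_or_gt_of_ne hj with h | h
    · exact DerivedCategory.isZero_of_isGE _ 0 j h
    · exact DerivedCategory.isZero_of_isLE _ 0 j h
  have hex : E.ExactAt j := by
    rw [HomologicalComplex.exactAt_iff_isZero_homology]
    exact hz
  rw [HomologicalComplex.exactAt_iff' E i j k (by rw [CochainComplex.prev]; omega)
    (by rw [CochainComplex.next]; omega), ShortComplex.moduleCat_exact_iff] at hex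
  exact hex x hx

include e in
theorem exists_equiv :
    Nonempty ((LinearMap.ker (E.d 0 1).hom ⧸ LinearMap.range (tc E)) ≃ₗ[R] M) := by
  have i0 : (E.sc 0).homology ≅ ModuleCat.of R M :=
    ((DerivedCategory.homologyFunctorFactors (ModuleCat.{u} R) 0).app E).symm ≪≫
      (DerivedCategory.homologyFunctor (ModuleCat.{u} R) 0).mapIso e ≪≫
      (DerivedCategory.singleFunctorCompHomologyFunctorIso (ModuleCat.{u} R) 0).app
        (ModuleCat.of R M)
  have i1 : (E.sc 0).homology ≅ (E.sc' (-1) 0 1).homology :=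
    ShortComplex.homologyMapIso (E.isoSc' (-1) 0 1 (by simp) (by simp))
  have i2 : (E.sc' (-1) 0 1).homology ≅
      ModuleCat.of R (LinearMap.ker (E.d 0 1).hom ⧸ LinearMap.range (tc E)) :=
    (E.sc' (-1) 0 1).moduleCatHomologyIso
  exact ⟨(i2.symm ≪≫ i1.symm ≪≫ i0).toLinearEquiv⟩

include e in
theorem exists_eps : ∃ ε : LinearMap.ker (E.d 0 1).hom →ₗ[R] M, Function.Surjective ε ∧
    ∀ z, ε z = 0 ↔ z ∈ LinearMap.range (tc E) := by
  obtain ⟨φL⟩ := exists_equiv E e
  refine ⟨φL.toLinearMap ∘ₗ (LinearMap.range (tc E)).mkQ, ?_, ?_⟩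
  · intro m
    obtain ⟨q, hq⟩ := φL.surjective m
    obtain ⟨z, hz⟩ := Submodule.mkQ_surjective _ q
    refine ⟨z, ?_⟩
    rw [LinearMap.comp_apply, hz]
    exact hq
  · intro z
    rw [LinearMap.comp_apply, LinearEquiv.coe_coe, LinearEquiv.map_eq_zero_iff,
      Submodule.mkQ_apply, Submodule.Quotient.mk_eq_zero]

include e in
theorem exists_res (a b : ℤ)
    (hvan : ∀ i : ℤ, i < a ∨ b < i → IsZero (E.X i))
    (hfp : ∀ i : ℤ, Module.Finite R (E.X i) ∧ Module.Projective R (E.X i)) :
    ∃ (P : ProjectiveResolution (ModuleCat.of R M)) (d : ℕ),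
      (∀ i : ℕ, d < i → IsZero (P.complex.X i)) ∧
        ∀ i : ℕ, Module.Finite R (P.complex.X i) := by
  have hexE := exact_of_iso E e
  -- the cycles in degree zero are finite projective
  have hZ : Module.Finite R (LinearMap.ker (E.d 0 1).hom) ∧
      Module.Projective R (LinearMap.ker (E.d 0 1).hom) := by
    have gen : ∀ (j k : ℤ), j = ((0 : ℕ) : ℤ) → k = ((0 + 1 : ℕ) : ℤ) →
        (Module.Finite R (LinearMap.ker (E.d j k).hom) ∧
          Module.Projective R (LinearMap.ker (E.d j k).hom)) := by
      rintro j k rfl rfl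
      exact ker_fg_proj (R := R) (fun i : ℕ => E.X (i : ℤ))
        (fun i => (E.d (i : ℤ) ((i + 1 : ℕ) : ℤ)).hom)
        (fun i x => d_d_apply E _ _ _ x)
        (fun i => hfp _)
        (fun i x hx => hexE (i : ℤ) ((i + 1 : ℕ) : ℤ) ((i + 1 + 1 : ℕ) : ℤ)
          (by omega) (by omega) (by omega) x hx)
        b.toNat (fun i hi => ModuleCat.subsingleton_of_isZero (hvan _ (Or.inr (by omega)))) 0
    exact gen 0 1 (by simp) (by simp)
  obtain ⟨ε, hεs, hε0⟩ := exists_eps E e
  have hd0 : (F E).d 1 0 = Fd E 0 := F_d E 0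
  obtain ⟨P, hP⟩ := exists_projRes_of_exact (M := M) (F E)
    (fun i => by
      cases i with
      | zero => exact hZ.2
      | succ n => exact (hfp (-(n : ℤ) - 1)).2)
    ε hεs
    (by
      intro x
      rw [hd0]
      obtain ⟨y', hy'⟩ := transport1 E (-((0 : ℕ) : ℤ) - 1) (by simp) x
      refine (hε0 _).2 ⟨y', Subtype.ext ?_⟩
      exact hy')
    (by
      intro x hx
      obtain ⟨y', hy'⟩ := (hε0 x).1 hx
      obtain ⟨y, hy⟩ := transport2 E (-((0 : ℕ) : ℤ) - 1) (by simp) y'
      refine ⟨y, ?_⟩
      rw [hd0]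
      apply Subtype.ext
      rw [← hy']
      exact hy)
    (by
      intro i x hx
      rw [F_d E i] at hx
      rw [F_d E (i + 1)]
      cases i with
      | zero =>
        have hx' : (E.d (-((0 : ℕ) : ℤ) - 1) 0).hom x = 0 := congrArg Subtype.val hx
        exact hexE (-((0 + 1 : ℕ) : ℤ) - 1) (-((0 : ℕ) : ℤ) - 1) 0
          (by omega) (by omega) (by omega) x hx'
      | succ n =>
        exact hexE (-((n + 1 + 1 : ℕ) : ℤ) - 1) (-((n + 1 : ℕ) : ℤ) - 1) (-(n : ℤ) - 1)
          (by omega) (by omega) (by omega) x hx)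
  refine ⟨P, (-a).toNat, ?_, ?_⟩
  · intro i hi
    rw [hP]
    cases i with
    | zero => omega
    | succ n =>
      show IsZero (E.X (-(n : ℤ) - 1))
      exact hvan _ (Or.inl (by omega))
  · intro i
    rw [hP]
    cases i with
    | zero => exact hZ.1
    | succ n => exact (hfp (-(n : ℤ) - 1)).1

end cx

section conv

variable {R : Type u} [CommRing R] {M : Type u} [AddCommGroup M] [Module R M]

theorem isPerfect_of_res (P : ProjectiveResolution (ModuleCat.of R M)) (d : ℕ)
    (hz : ∀ i : ℕ, d < i → IsZero (P.complex.X i))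
    (hf : ∀ i : ℕ, Module.Finite R (P.complex.X i)) :
    DRing.IsPerfectModule R M := by
  show ∃ (E : DRing.Cx R) (a b : ℤ), DRing.VanishesOutside E a b ∧
    DRing.TermwiseFiniteProjective E ∧ Nonempty (DRing.toD E ≅ Dual.inD R M)
  refine ⟨P.cochainComplex, -(d : ℤ), 0, ?_, ?_, ⟨?_⟩⟩
  · intro i hi
    by_cases h0 : i ≤ 0
    · obtain ⟨k, rfl⟩ := Int.exists_eq_neg_ofNat h0
      have hk : d < k := by omega
      exact IsZero.of_iso (hz k hk) (P.cochainComplexXIso (-(k : ℤ)) k rfl)
    · exact CochainComplex.isZero_of_isStrictlyLE _ 0 _ (by omega)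
  · intro i
    constructor
    · by_cases h0 : i ≤ 0
      · obtain ⟨k, rfl⟩ := Int.exists_eq_neg_ofNat h0
        haveI := hf k
        exact Module.Finite.equiv (P.cochainComplexXIso (-(k : ℤ)) k rfl).toLinearEquiv.symm
      · haveI : Subsingleton (P.cochainComplex.X i) :=
          ModuleCat.subsingleton_of_isZero
            (CochainComplex.isZero_of_isStrictlyLE _ 0 _ (by omega))
        infer_instance
    · have hpr : Projective (P.cochainComplex.X i) := inferInstance
      exact (IsProjective.iff_projective (R := R) (P.cochainComplex.X i)).2 hpr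
  · haveI : IsIso (DerivedCategory.Q.map P.π') := by
      rw [DerivedCategory.isIso_Q_map_iff_quasiIso]
      infer_instance
    exact asIso (DerivedCategory.Q.map P.π') ≪≫
      ((DerivedCategory.singleFunctorIsoCompQ (ModuleCat.{u} R) 0).app (ModuleCat.of R M)).symm

end conv

end Groth.Agent.LD.PerfRes
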