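import Mathlib
import Groth.Prelude.Def_QCohCat
import Groth.Prelude.Def_Coh
import Groth.Agent.Lib.Lead.QCGroth
import Groth.Agent.Lib.Lead.QC.ACC
import Groth.Agent.Lib.Lead.FPExt.Quot

/-!
# Noetherian objects of `QCoh(Y)` for a Noetherian scheme `Y` are the coherent modules (S11129)
-/

universe u
open CategoryTheory Limits AlgebraicGeometry TopologicalSpace Opposite

namespace Groth.Agent.LD.QCohNoeth
open Groth.Agent.LD Groth.Agent.LD.QCGroth

variable {Y : Scheme.{u}}

instance mono_hom {A B : QCohCat.QCoh Y} (g : A ⟶ B) [Mono g] : Mono g.hom :=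
  inferInstanceAs (Mono ((QCohCat.isQCoh Y).ι.map g))

/-- an epimorphism of `QCoh(Y)` is an epimorphism of `O_Y`-modules -/
theorem epi_hom_of_epi {A B : QCohCat.QCoh Y} (e : A ⟶ B) [Epi e] : Epi e.hom := by
  have hq : (cokernel e.hom).IsQuasicoherent := QC.qc_cokernel e.hom A.property B.property
  have h1 : e ≫ (ObjectProperty.homMk (cokernel.π e.hom) :
      B ⟶ (⟨cokernel e.hom, hq⟩ : QCohCat.QCoh Y)) = 0 := by
    apply ObjectProperty.hom_ext
    show e.hom ≫ cokernel.π e.hom = 0
    exact cokernel.condition e.hom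
  have h2 : (ObjectProperty.homMk (cokernel.π e.hom) :
      B ⟶ (⟨cokernel e.hom, hq⟩ : QCohCat.QCoh Y)) = 0 := by
    rw [← cancel_epi e, h1, Limits.comp_zero]
  have h3 : cokernel.π e.hom = 0 := congrArg (fun φ => φ.hom) h2
  exact Abelian.epi_of_cokernel_π_eq_zero _ h3

/-- coherent modules are Noetherian objects of `QCoh(Y)` -/
theorem isNoetherianObject_of_isCoh [IsNoetherian Y] (M : QCohCat.QCoh Y)
    (hft : M.obj.IsFiniteType) : IsNoetherianObject M := by
  rw [isNoetherianObject_iff_monotone_chain_condition]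
  intro f
  let F : ℕ →o Subobject M.obj :=
    { toFun := fun n => Subobject.mk (f n).arrow.hom
      monotone' := by
        intro a b hab
        refine Subobject.mk_le_mk_of_comm (Subobject.ofLE _ _ (f.monotone hab)).hom ?_
        have h1 : Subobject.ofLE _ _ (f.monotone hab) ≫ (f b).arrow = (f a).arrow :=
          Subobject.ofLE_arrow _
        exact congrArg (fun φ => φ.hom) h1 }
  obtain ⟨n, hn⟩ := QC.acc_qc_subobjects M.obj M.property hft F (fun k =>
    QC.qc_of_iso (Subobject.underlyingIso (f k).arrow.hom).symm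
      (f k : QCohCat.QCoh Y).property)
  refine ⟨n, fun m hm => ?_⟩
  have hle : f n ≤ f m := f.monotone hm
  refine le_antisymm hle ?_
  have hFm : Subobject.mk (f m).arrow.hom ≤ Subobject.mk (f n).arrow.hom := (hn m hm).le
  obtain ⟨k, hk⟩ : ∃ k : (f m : QCohCat.QCoh Y).obj ⟶ (f n : QCohCat.QCoh Y).obj,
      k ≫ (f n).arrow.hom = (f m).arrow.hom :=
    ⟨Subobject.ofMkLEMk _ _ hFm, Subobject.ofMkLEMk_comp hFm⟩
  exact Subobject.le_of_comm (ObjectProperty.homMk k) (ObjectProperty.hom_ext _ hk)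

/-- Noetherian objects of `QCoh(Y)` are of finite type -/
theorem isFiniteType_of_isNoetherianObject [IsNoetherian Y] (M : QCohCat.QCoh Y)
    [IsNoetherianObject M] : M.obj.IsFiniteType := by
  haveI hMq : M.obj.IsQuasicoherent := M.property
  let S : Set (Subobject M) := {P | ∃ (G : QCohCat.QCoh Y) (φ : G ⟶ M),
    G.obj.IsFinitePresentation ∧ imageSubobject φ = P}
  have hS : S.Nonempty := by
    obtain ⟨G, φ, hG, -⟩ := FPExt.exists_fp_through_section M.obj (isAffineOpen_bot Y)
      (0 : Γ(M.obj, ⊥))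
    haveI := hG
    exact ⟨_, ⟨G, (inferInstance : G.IsQuasicoherent)⟩, ObjectProperty.homMk φ, hG, rfl⟩
  obtain ⟨P, hPS, hmax⟩ := WellFounded.has_min
    (wellFounded_gt : WellFounded ((· > ·) : Subobject M → Subobject M → Prop)) S hS
  obtain ⟨G, φ, hG, rfl⟩ := hPS
  have key : ∀ (G' : QCohCat.QCoh Y) (ψ : G' ⟶ M), G'.obj.IsFinitePresentation →
      ∃ k : G' ⟶ (imageSubobject φ : QCohCat.QCoh Y), k ≫ (imageSubobject φ).arrow = ψ := by
    intro G' ψ hG'
    have hB : (G.obj ⊞ G'.obj).IsFinitePresentation :=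
      FPExt.isFinitePresentation_biprod _ _ hG hG'
    haveI := hB
    let B : QCohCat.QCoh Y := ⟨G.obj ⊞ G'.obj, (inferInstance : (G.obj ⊞ G'.obj).IsQuasicoherent)⟩
    let Φ : B ⟶ M := ObjectProperty.homMk (biprod.desc φ.hom ψ.hom)
    have hΦ1 : (ObjectProperty.homMk biprod.inl : G ⟶ B) ≫ Φ = φ := by
      apply ObjectProperty.hom_ext
      exact biprod.inl_desc _ _
    have hΦ2 : (ObjectProperty.homMk biprod.inr : G' ⟶ B) ≫ Φ = ψ := by
      apply ObjectProperty.hom_ext
      exact biprod.inr_desc _ _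
    have hle : imageSubobject φ ≤ imageSubobject Φ := by
      refine imageSubobject_le φ
        ((ObjectProperty.homMk biprod.inl : G ⟶ B) ≫ factorThruImageSubobject Φ) ?_
      rw [Category.assoc, imageSubobject_arrow_comp, hΦ1]
    have hmem : imageSubobject Φ ∈ S := ⟨B, Φ, hB, rfl⟩
    have hge : imageSubobject Φ ≤ imageSubobject φ := by
      by_contra h
      exact hmax _ hmem (lt_of_le_not_ge hle h)
    refine ⟨(ObjectProperty.homMk biprod.inr : G' ⟶ B) ≫ factorThruImageSubobject Φ ≫
      Subobject.ofLE _ _ hge, ?_⟩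
    rw [Category.assoc, Category.assoc, Subobject.ofLE_arrow, imageSubobject_arrow_comp, hΦ2]
  haveI hGq : G.obj.IsQuasicoherent := G.property
  have hPq : (imageSubobject φ : QCohCat.QCoh Y).obj.IsQuasicoherent :=
    (imageSubobject φ : QCohCat.QCoh Y).property
  haveI hGfp : G.obj.IsFinitePresentation := hG
  haveI hepi : Epi (factorThruImageSubobject φ).hom := epi_hom_of_epi _
  have hsurj : ∀ (V : Y.Opens), IsAffineOpen V → Function.Surjective (φ.hom.app V) := by
    intro V hV s
    obtain ⟨G', ψ, hG', g', hg'⟩ := FPExt.exists_fp_through_section M.obj hV s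
    haveI := hG'
    obtain ⟨k, hk⟩ := key ⟨G', (inferInstance : G'.IsQuasicoherent)⟩ (ObjectProperty.homMk ψ) hG'
    obtain ⟨g, hg⟩ := QC.epi_app_affine hGq hPq (factorThruImageSubobject φ).hom hV
      (k.hom.app V g')
    refine ⟨g, ?_⟩
    have h1 : φ.hom = (factorThruImageSubobject φ).hom ≫ (imageSubobject φ).arrow.hom :=
      congrArg (fun θ => θ.hom) (imageSubobject_arrow_comp φ).symm
    have h2 : ψ = k.hom ≫ (imageSubobject φ).arrow.hom := congrArg (fun θ => θ.hom) hk.symm
    rw [h1, QC.comp_app', hg, ← QC.comp_app', ← h2]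
    exact hg'
  rw [QC.isFiniteType_iff_finite_sections]
  intro U hU
  haveI : Module.Finite Γ(Y, U) Γ(G.obj, U) :=
    QC.finite_sections_of_isFiniteType G.obj inferInstance hU
  exact Module.Finite.of_surjective (QC.appLinear φ.hom U) (hsurj U hU)

end Groth.Agent.LD.QCohNoeth
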